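import Groth.Agent.H45.TypeA.Kernel

/-!
# Direct sums of modules of type A are of type A
-/

set_option autoImplicit false
universe v u' u
open CategoryTheory CategoryTheory.Limits Opposite

namespace Groth.Agent.H45.TypeA

section Abelian

variable {A : Type u'} [Category.{v} A] [Abelian A]

/-- The cokernel of a direct sum of maps is the direct sum of the cokernels. -/
noncomputable def cokernelBiprodMapIso {R P R' P' : A} (ψ : R ⟶ P) (ψ' : R' ⟶ P') :
    cokernel ψ ⊞ cokernel ψ' ≅ cokernel (biprod.map ψ ψ') := by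
  have w : biprod.map ψ ψ' ≫ biprod.map (cokernel.π ψ) (cokernel.π ψ') = 0 := by
    apply biprod.hom_ext' <;> apply biprod.hom_ext <;> simp
  have key : ∀ {T : A} (t : P ⊞ P' ⟶ T) (_ : biprod.map ψ ψ' ≫ t = 0),
      ∃ t' : cokernel ψ ⊞ cokernel ψ' ⟶ T,
        biprod.map (cokernel.π ψ) (cokernel.π ψ') ≫ t' = t := by
    intro T t ht
    have h1 : ψ ≫ biprod.inl ≫ t = 0 := by
      have := congrArg (fun x => biprod.inl ≫ x) ht
      simpa using this
    have h2 : ψ' ≫ biprod.inr ≫ t = 0 := by
      have := congrArg (fun x => biprod.inr ≫ x) ht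
      simpa using this
    refine ⟨biprod.desc (cokernel.desc ψ (biprod.inl ≫ t) h1)
      (cokernel.desc ψ' (biprod.inr ≫ t) h2), ?_⟩
    apply biprod.hom_ext' <;> simp
  haveI : Epi (biprod.map (cokernel.π ψ) (cokernel.π ψ')) := by
    refine ⟨fun {T} f g hfg => ?_⟩
    apply biprod.hom_ext'
    · rw [← cancel_epi (cokernel.π ψ)]
      have := congrArg (fun x => biprod.inl ≫ x) hfg
      simpa using this
    · rw [← cancel_epi (cokernel.π ψ')]
      have := congrArg (fun x => biprod.inr ≫ x) hfg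
      simpa using this
  have hcol : IsColimit (CokernelCofork.ofπ (biprod.map (cokernel.π ψ) (cokernel.π ψ')) w) :=
    CokernelCofork.IsColimit.ofπ _ _ (fun t ht => (key t ht).choose)
      (fun t ht => (key t ht).choose_spec) (fun t ht m hm => by
        rw [← cancel_epi (biprod.map (cokernel.π ψ) (cokernel.π ψ')), hm,
          (key t ht).choose_spec])
  exact IsColimit.coconePointUniqueUpToIso hcol (colimit.isColimit _)

end Abelian

variable {C : Type u} [SmallCategory C] {J : GrothendieckTopology C}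
  {O : Sheaf J CommRingCat.{u}} {B : Set C}

/-- Direct sums of modules of type A are of type A. -/
theorem IsTypeA.biprod {M N : ModSite.Mod O} (hM : IsTypeA O B M) (hN : IsTypeA O B N) :
    IsTypeA O B (M ⊞ N) := by
  obtain ⟨R, P, ψ, hR, hP, ⟨e⟩⟩ := hM
  obtain ⟨R', P', ψ', hR', hP', ⟨e'⟩⟩ := hN
  exact ⟨R ⊞ R', P ⊞ P', biprod.map ψ ψ', hR.biprod hR', hP.biprod hP',
    ⟨biprod.mapIso e e' ≪≫ cokernelBiprodMapIso ψ ψ'⟩⟩

end Groth.Agent.H45.TypeA
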