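import Groth.Agent.H45.TypeA.FG
import Mathlib.CategoryTheory.Sites.IsSheafFor

/-!
# Finite covers: the kernel of `⊕ j_{W_k!} O ⟶ j_{U!} O` is finitely generated
-/

set_option autoImplicit false
universe u
open CategoryTheory CategoryTheory.Limits Opposite

namespace Groth.Agent.H45.TypeA

open Groth.Agent.H31 (freeOnHomEquiv freeOnHomEquiv_naturality freeOnHomEquiv_symm_naturality
  sect_ext_of_cover)

variable {C : Type u} [SmallCategory C] {J : GrothendieckTopology C}
  {O : Sheaf J CommRingCat.{u}} {B : Set C}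

lemma freeOnHomEquiv_freeOnMap {W U : C} (g : W ⟶ U) :
    freeOnHomEquiv O W _ (freeOnMap O g) = (ModSite.freeOn O U).val.map g.op (unitSec O U) := by
  rw [freeOnMap, Equiv.apply_symm_apply]

lemma freeOnMap_comp {W V U : C} (a : W ⟶ V) (b : V ⟶ U) :
    freeOnMap O (a ≫ b) = freeOnMap O a ≫ freeOnMap O b := by
  apply (freeOnHomEquiv O W _).injective
  rw [freeOnHomEquiv_freeOnMap_comp, freeOnHomEquiv_freeOnMap, freeOnHomEquiv_freeOnMap,
    op_comp]
  exact PresheafOfModules.map_comp_apply _ _ _ _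

/-- Gluing sections of a sheaf of modules over a covering family, in a site with pullbacks. -/
lemma exists_glue [HasPullbacks C] (T : ModSite.Mod O) {U : C} {κ : Type*} (W : κ → C)
    (g : ∀ k, W k ⟶ U) (hcov : Sieve.ofArrows W g ∈ J U) (t : ∀ k, T.val.obj (op (W k)))
    (hcompat : ∀ k k', T.val.map (pullback.fst (g k) (g k')).op (t k) =
      T.val.map (pullback.snd (g k) (g k')).op (t k')) :
    ∃ τ : T.val.obj (op U), ∀ k, T.val.map (g k).op τ = t k := by
  have hsh : Presieve.IsSheaf J (T.val.presheaf ⋙ forget _) :=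
    (isSheaf_iff_isSheaf_of_type _ _).1
      ((Presheaf.isSheaf_iff_isSheaf_forget J T.val.presheaf (forget _)).1 T.isSheaf)
  have h1 : Presieve.IsSheafFor (T.val.presheaf ⋙ forget _) (Presieve.ofArrows W g) :=
    (Presieve.isSheafFor_iff_generate _).2 (hsh _ hcov)
  rw [Presieve.isSheafFor_arrows_iff_pullbacks] at h1
  obtain ⟨τ, hτ, -⟩ := h1 t hcompat
  exact ⟨τ, hτ⟩

variable (J B) in
/-- Finite covers of the members of a finite family by members of `B`. -/
structure CoverData {I : Type} (U : I → C) where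
  /-- the number of members of the cover of `U i` -/
  n : I → ℕ
  /-- the members of the covers -/
  W : ∀ i, Fin (n i) → C
  /-- the structure maps of the covers -/
  g : ∀ i k, W i k ⟶ U i
  hW : ∀ i k, W i k ∈ B
  hcov : ∀ i, Sieve.ofArrows (W i) (g i) ∈ J (U i)

namespace CoverData

variable {I : Type} [Finite I] {U : I → C} (D : CoverData J B U)

/-- The index type of all members of the covers. -/
abbrev K : Type := Σ i : I, Fin (D.n i)

variable (O) in
/-- The direct sum of the free modules on the members of the covers. -/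
noncomputable abbrev src : ModSite.Mod O := ∐ fun x : D.K => ModSite.freeOn O (D.W x.1 x.2)

variable (O) in
/-- The canonical map `⊕_{i,k} j_{W_ik!} O ⟶ ⊕_i j_{U_i!} O`. -/
noncomputable def q : D.src O ⟶ ∐ fun i => ModSite.freeOn O (U i) :=
  Sigma.desc (fun x => freeOnMap O (D.g x.1 x.2) ≫
    Sigma.ι (fun i => ModSite.freeOn O (U i)) x.1)

lemma ι_q (x : D.K) :
    Sigma.ι (fun x : D.K => ModSite.freeOn O (D.W x.1 x.2)) x ≫ D.q O =
      freeOnMap O (D.g x.1 x.2) ≫ Sigma.ι (fun i => ModSite.freeOn O (U i)) x.1 := by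
  simp [q]

lemma isFinSum_src : IsFinSum O B (D.src O) :=
  isFinSum_sigma (fun x : D.K => D.W x.1 x.2) (fun x => D.hW x.1 x.2)

instance epi_q : Epi (D.q O) := by
  refine ⟨fun {T} c d hcd => ?_⟩
  apply Sigma.hom_ext
  intro i
  apply (freeOnHomEquiv O (U i) T).injective
  apply sect_ext_of_cover O T (D.W i) (D.g i) (D.hcov i)
  intro k
  rw [← freeOnHomEquiv_freeOnMap_comp, ← freeOnHomEquiv_freeOnMap_comp]
  have h1 := congrArg (fun x => Sigma.ι (fun x : D.K => ModSite.freeOn O (D.W x.1 x.2)) ⟨i, k⟩ ≫ x) hcd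
  simp only [← Category.assoc, ι_q] at h1
  simp only [Category.assoc] at h1
  rw [h1]

end CoverData

end Groth.Agent.H45.TypeA
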