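import Groth.Agent.H45.TypeA.CechFG

/-!
# The Čech presentation of the covering map `⊕ j_{W_ik!} O ⟶ ⊕ j_{U_i!} O`, with the relations exposed
-/

set_option autoImplicit false
universe u
open CategoryTheory CategoryTheory.Limits Opposite

namespace Groth.Agent.H45.TypeA

open Groth.Agent.H31 (freeOnHomEquiv freeOnHomEquiv_naturality freeOnHomEquiv_symm_naturality
  sect_ext_of_cover)

variable {C : Type u} [SmallCategory C] {J : GrothendieckTopology C}
  {O : Sheaf J CommRingCat.{u}} {B : Set C}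

namespace CoverData

variable {I : Type} [Finite I] {U : I → C} (D : CoverData J B U)

theorem exists_cech_exact [HasPullbacks C]
    (hB₁ : ∀ X : C, ∃ (κ : Type u) (Y : κ → C) (g : ∀ k, Y k ⟶ X),
      Sieve.ofArrows Y g ∈ J X ∧ ∀ k, Y k ∈ B)
    (hB₃ : ∀ (U U₁ U₂ : C) (f₁ : U₁ ⟶ U) (f₂ : U₂ ⟶ U), U ∈ B → U₁ ∈ B → U₂ ∈ B →
      CohCx.IsQcObject (QC.hsh J (pullback f₁ f₂)))
    (hU : ∀ i, U i ∈ B) :
    ∃ (Rd : ModSite.Mod O) (d : Rd ⟶ D.src O) (w : d ≫ D.q O = 0),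
      IsFinSum O B Rd ∧ (ShortComplex.mk d (D.q O) w).Exact := by
  have hZ : ∀ (i : I) (k k' : Fin (D.n i)), ∃ (m : ℕ) (Zc : Fin m → C)
      (c : ∀ l, Zc l ⟶ pullback (D.g i k) (D.g i k')),
      (∀ l, Zc l ∈ B) ∧ Sieve.ofArrows Zc c ∈ J (pullback (D.g i k) (D.g i k')) := by
    intro i k k'
    obtain ⟨m, Zc, c, -, hB, hcov⟩ := exists_finite_B_cover B hB₁
      (hB₃ _ _ _ (D.g i k) (D.g i k') (hU i) (D.hW i k) (D.hW i k')) ⊤ (J.top_mem _)
    exact ⟨m, Zc, c, hB, hcov⟩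
  choose m Zc c hZB hZcov using hZ
  let L : Type := Σ (i : I) (kk : Fin (D.n i) × Fin (D.n i)), Fin (m i kk.1 kk.2)
  let fQ : D.K → ModSite.Mod O := fun x => ModSite.freeOn O (D.W x.1 x.2)
  let fR : L → ModSite.Mod O := fun y => ModSite.freeOn O (Zc y.1 y.2.1.1 y.2.1.2 y.2.2)
  let d : ∐ fR ⟶ D.src O := Sigma.desc (fun y =>
    freeOnMap O (c y.1 y.2.1.1 y.2.1.2 y.2.2 ≫ pullback.fst _ _) ≫ Sigma.ι fQ ⟨y.1, y.2.1.1⟩ -
    freeOnMap O (c y.1 y.2.1.1 y.2.1.2 y.2.2 ≫ pullback.snd _ _) ≫ Sigma.ι fQ ⟨y.1, y.2.1.2⟩)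
  have hd : ∀ y : L, Sigma.ι fR y ≫ d =
    freeOnMap O (c y.1 y.2.1.1 y.2.1.2 y.2.2 ≫ pullback.fst _ _) ≫ Sigma.ι fQ ⟨y.1, y.2.1.1⟩ -
    freeOnMap O (c y.1 y.2.1.1 y.2.1.2 y.2.2 ≫ pullback.snd _ _) ≫ Sigma.ι fQ ⟨y.1, y.2.1.2⟩ := by
    intro y
    simp [d]
  have w : d ≫ D.q O = 0 := by
    apply Sigma.hom_ext
    intro y
    rw [← Category.assoc, hd, Preadditive.sub_comp, Category.assoc, Category.assoc, D.ι_q, D.ι_q,
      comp_zero, ← Category.assoc, ← Category.assoc, ← freeOnMap_comp, ← freeOnMap_comp,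
      Category.assoc, Category.assoc, pullback.condition, sub_self]
  have key : ∀ {T : ModSite.Mod O} (t : D.src O ⟶ T) (_ : d ≫ t = 0),
      ∃ t' : (∐ fun i => ModSite.freeOn O (U i)) ⟶ T, D.q O ≫ t' = t := by
    intro T t ht
    let s : ∀ x : D.K, T.val.obj (op (D.W x.1 x.2)) :=
      fun x => freeOnHomEquiv O _ T (Sigma.ι fQ x ≫ t)
    have hcompat : ∀ i k k', T.val.map (pullback.fst (D.g i k) (D.g i k')).op (s ⟨i, k⟩) =
        T.val.map (pullback.snd (D.g i k) (D.g i k')).op (s ⟨i, k'⟩) := by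
      intro i k k'
      apply sect_ext_of_cover O T (Zc i k k') (c i k k') (hZcov i k k')
      intro l
      rw [← PresheafOfModules.map_comp_apply, ← PresheafOfModules.map_comp_apply, ← op_comp,
        ← op_comp, ← freeOnHomEquiv_freeOnMap_comp, ← freeOnHomEquiv_freeOnMap_comp]
      congr 1
      have h1 := congrArg (fun x => Sigma.ι fR ⟨i, (k, k'), l⟩ ≫ x) ht
      simp only [← Category.assoc, hd, comp_zero] at h1
      rw [Preadditive.sub_comp, sub_eq_zero] at h1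
      simpa only [Category.assoc] using h1
    choose τ hτ using fun i =>
      exists_glue T (D.W i) (D.g i) (D.hcov i) (fun k => s ⟨i, k⟩) (hcompat i)
    refine ⟨Sigma.desc (fun i => (freeOnHomEquiv O (U i) T).symm (τ i)), ?_⟩
    apply Sigma.hom_ext
    rintro ⟨i, k⟩
    rw [← Category.assoc, D.ι_q, Category.assoc, colimit.ι_desc]
    simp only [Cofan.mk_pt, Cofan.mk_ι_app]
    rw [freeOnMap_comp_symm, hτ i k]
    exact Equiv.symm_apply_apply _ _
  have hcok : IsColimit (CokernelCofork.ofπ (D.q O) w) :=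
    CokernelCofork.IsColimit.ofπ _ _ (fun t ht => (key t ht).choose)
      (fun t ht => (key t ht).choose_spec) (fun t ht m' hm => by
        rw [← cancel_epi (D.q O), hm, (key t ht).choose_spec])
  have hS : (ShortComplex.mk d (D.q O) w).Exact := ShortComplex.exact_of_g_is_cokernel _ hcok
  have hR : IsFinSum O B (∐ fR) :=
    isFinSum_sigma (fun y : L => Zc y.1 y.2.1.1 y.2.1.2 y.2.2) (fun y => hZB _ _ _ _)
  exact ⟨∐ fR, d, w, hR, hS⟩

end CoverData

end Groth.Agent.H45.TypeA
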