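import Mathlib.CategoryTheory.Abelian.Basic
import Mathlib.CategoryTheory.Limits.Shapes.BinaryBiproducts

/-!
# A cokernel computation in abelian categories
-/

set_option autoImplicit false
open CategoryTheory CategoryTheory.Limits

namespace Groth.Agent.H45.TypeA

universe v u
variable {A : Type u} [Category.{v} A] [Abelian A]

/-- If `G = Coker(ψ : R ⟶ P)` via `π`, `p : Q ⟶ F` is an epimorphism and `β : Q ⟶ P` lifts
`p ≫ α`, then `Coker(α : F ⟶ G) = Coker((ψ, β) : R ⊞ Q ⟶ P)`. -/
noncomputable def cokernelIsoOfLift {R P G F Q : A} (ψ : R ⟶ P) (π : P ⟶ G) (w : ψ ≫ π = 0)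
    (hπ : IsColimit (CokernelCofork.ofπ π w)) (p : Q ⟶ F) [Epi p] (α : F ⟶ G) (β : Q ⟶ P)
    (comm : β ≫ π = p ≫ α) : cokernel α ≅ cokernel (biprod.desc ψ β) := by
  have w' : biprod.desc ψ β ≫ π ≫ cokernel.π α = 0 := by
    apply biprod.hom_ext'
    · rw [biprod.inl_desc_assoc, reassoc_of% w, zero_comp, comp_zero]
    · rw [biprod.inr_desc_assoc, reassoc_of% comm, cokernel.condition, comp_zero, comp_zero]
  have hcol : IsColimit (CokernelCofork.ofπ (π ≫ cokernel.π α) w') := by
    have key : ∀ {T : A} (t : P ⟶ T) (_ : biprod.desc ψ β ≫ t = 0),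
        ∃ t₂ : cokernel α ⟶ T, (π ≫ cokernel.π α) ≫ t₂ = t := by
      intro T t ht
      have h1 : ψ ≫ t = 0 := by
        have := congrArg (fun x => biprod.inl ≫ x) ht
        simpa using this
      have h2 : β ≫ t = 0 := by
        have := congrArg (fun x => biprod.inr ≫ x) ht
        simpa using this
      let t₁ : G ⟶ T := hπ.desc (CokernelCofork.ofπ t h1)
      have ht₁ : π ≫ t₁ = t := hπ.fac (CokernelCofork.ofπ t h1) WalkingParallelPair.one
      have h3 : α ≫ t₁ = 0 := by
        rw [← cancel_epi p, ← Category.assoc, ← comm, Category.assoc, ht₁, h2, comp_zero]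
      exact ⟨cokernel.desc α t₁ h3, by rw [Category.assoc, cokernel.π_desc, ht₁]⟩
    haveI : Epi π := epi_of_isColimit_cofork hπ
    refine CokernelCofork.IsColimit.ofπ _ _ (fun t ht => (key t ht).choose)
      (fun t ht => (key t ht).choose_spec) (fun t ht m hm => ?_)
    rw [← cancel_epi (π ≫ cokernel.π α), hm, (key t ht).choose_spec]
  exact (IsColimit.coconePointUniqueUpToIso hcol (colimit.isColimit _))

/-- The cokernel of `α` agrees with the cokernel of `p ≫ α` for `p` an epimorphism. -/
noncomputable def cokernelEpiCompIso {Q F G : A} (p : Q ⟶ F) [Epi p] (α : F ⟶ G) :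
    cokernel (p ≫ α) ≅ cokernel α :=
  cokernelEpiComp p α

end Groth.Agent.H45.TypeA
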