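import Groth.Agent.H45.TypeA.FreeOnMap
import Mathlib.CategoryTheory.Limits.Shapes.CombinedProducts
import Mathlib.CategoryTheory.Abelian.Basic

/-!
# Finite direct sums of modules `j_{U!} O_U` with `U` in a given set, and modules of type A
-/

set_option autoImplicit false
universe u
open CategoryTheory CategoryTheory.Limits Opposite

namespace Groth.Agent.H45.TypeA

variable {C : Type u} [SmallCategory C] {J : GrothendieckTopology C}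
  (O : Sheaf J CommRingCat.{u}) (B : Set C)

/-- A finite direct sum of modules `j_{V!} O_V` with `V ∈ B`. -/
def IsFinSum (P : ModSite.Mod O) : Prop :=
  ∃ (I : Type) (_ : Finite I) (V : I → C), (∀ j, V j ∈ B) ∧
    Nonempty (P ≅ ∐ fun j => ModSite.freeOn O (V j))

/-- The statement-level form of a module of type A. -/
def IsTypeAStmt (M : ModSite.Mod O) : Prop :=
  ∃ (m' n' : ℕ) (V' : Fin m' → C) (U' : Fin n' → C)
    (ψ : (∐ fun j => ModSite.freeOn O (V' j)) ⟶ ∐ fun i => ModSite.freeOn O (U' i)),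
    (∀ j, V' j ∈ B) ∧ (∀ i, U' i ∈ B) ∧ Nonempty (M ≅ cokernel ψ)

/-- A module of type A: a cokernel of a map between finite direct sums. -/
def IsTypeA (M : ModSite.Mod O) : Prop :=
  ∃ (R P : ModSite.Mod O) (ψ : R ⟶ P), IsFinSum O B R ∧ IsFinSum O B P ∧ Nonempty (M ≅ cokernel ψ)

variable {O B}

lemma IsFinSum.of_iso {P P' : ModSite.Mod O} (e : P ≅ P') (h : IsFinSum O B P) :
    IsFinSum O B P' := by
  obtain ⟨I, hI, V, hV, ⟨e'⟩⟩ := h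
  exact ⟨I, hI, V, hV, ⟨e.symm ≪≫ e'⟩⟩

lemma IsFinSum.fin {P : ModSite.Mod O} (h : IsFinSum O B P) :
    ∃ (m : ℕ) (V : Fin m → C), (∀ j, V j ∈ B) ∧
      Nonempty (P ≅ ∐ fun j => ModSite.freeOn O (V j)) := by
  obtain ⟨I, hI, V, hV, ⟨e⟩⟩ := h
  obtain ⟨m, ⟨ε⟩⟩ := Finite.exists_equiv_fin I
  refine ⟨m, fun j => V (ε.symm j), fun j => hV _, ⟨e ≪≫ ?_⟩⟩
  exact (Sigma.reindex ε.symm (fun j => ModSite.freeOn O (V j))).symm

lemma isFinSum_sigma {I : Type} [Finite I] (V : I → C) (hV : ∀ j, V j ∈ B) :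
    IsFinSum O B (∐ fun j => ModSite.freeOn O (V j)) :=
  ⟨I, inferInstance, V, hV, ⟨Iso.refl _⟩⟩

lemma IsFinSum.biprod {M N : ModSite.Mod O} (hM : IsFinSum O B M) (hN : IsFinSum O B N) :
    IsFinSum O B (M ⊞ N) := by
  obtain ⟨ι₁, hι₁, U₁, hU₁, ⟨e₁⟩⟩ := hM
  obtain ⟨ι₂, hι₂, U₂, hU₂, ⟨e₂⟩⟩ := hN
  refine ⟨ι₁ ⊕ ι₂, inferInstance, Sum.elim U₁ U₂, ?_, ⟨?_⟩⟩
  · rintro (j | j)
    · exact hU₁ j
    · exact hU₂ j
  let f₁ : ι₁ → ModSite.Mod O := fun j => ModSite.freeOn O (U₁ j)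
  let f₂ : ι₂ → ModSite.Mod O := fun j => ModSite.freeOn O (U₂ j)
  let c₁ : Cofan f₁ := Cofan.mk M (fun j => Sigma.ι f₁ j ≫ e₁.inv)
  let c₂ : Cofan f₂ := Cofan.mk N (fun j => Sigma.ι f₂ j ≫ e₂.inv)
  have h₁ : IsColimit c₁ := IsColimit.ofIsoColimit (coproductIsCoproduct f₁)
    (Cocone.ext e₁.symm (fun ⟨j⟩ => rfl))
  have h₂ : IsColimit c₂ := IsColimit.ofIsoColimit (coproductIsCoproduct f₂)
    (Cocone.ext e₂.symm (fun ⟨j⟩ => rfl))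
  let bc : BinaryCofan c₁.pt c₂.pt := (BinaryBiproduct.bicone M N).toCocone
  have hbc : IsColimit bc := BinaryBiproduct.isColimit M N
  have h := Cofan.combPairIsColimit h₁ h₂ hbc
  let e : ∀ j : ι₁ ⊕ ι₂, ModSite.freeOn O (Sum.elim U₁ U₂ j) ≅ Sum.elim f₁ f₂ j := fun j =>
    match j with
    | .inl _ => Iso.refl _
    | .inr _ => Iso.refl _
  exact (IsColimit.coconePointUniqueUpToIso h (coproductIsCoproduct (Sum.elim f₁ f₂))) ≪≫
    (Sigma.mapIso e).symm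

lemma IsTypeA.of_stmt {M : ModSite.Mod O} (h : IsTypeAStmt O B M) : IsTypeA O B M := by
  obtain ⟨m, n, V, U, ψ, hV, hU, hM⟩ := h
  exact ⟨_, _, ψ, isFinSum_sigma V hV, isFinSum_sigma U hU, hM⟩

lemma IsTypeA.stmt {M : ModSite.Mod O} (h : IsTypeA O B M) : IsTypeAStmt O B M := by
  obtain ⟨R, P, ψ, hR, hP, ⟨e⟩⟩ := h
  obtain ⟨m, V, hV, ⟨eR⟩⟩ := hR.fin
  obtain ⟨n, U, hU, ⟨eP⟩⟩ := hP.fin
  refine ⟨m, n, V, U, eR.inv ≫ ψ ≫ eP.hom, hV, hU, ⟨e ≪≫ ?_⟩⟩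
  exact cokernel.mapIso ψ (eR.inv ≫ ψ ≫ eP.hom) eR eP (by simp)

end Groth.Agent.H45.TypeA
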