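import Groth.Agent.H45.TypeA.Cover
import Groth.Agent.H45.TypeA.FinSum
import Groth.Agent.H45.TypeA.CokerLemma
import Groth.Agent.H45.FinFree.FreeSlice

/-!
# Cokernels of maps between modules of type A are of type A
-/

set_option autoImplicit false
universe u
open CategoryTheory CategoryTheory.Limits Opposite

namespace Groth.Agent.H45.TypeA

open Groth.Agent.H31 (freeOnHomEquiv freeOnHomEquiv_naturality freeOnHomEquiv_symm_naturality
  sect_ext_of_cover)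

variable {C : Type u} [SmallCategory C] {J : GrothendieckTopology C}
  {O : Sheaf J CommRingCat.{u}} {B : Set C}

/-- Local lifting of a section along an epimorphism, over a finite cover by members of `B`. -/
theorem exists_local_lifts
    (hB₁ : ∀ X : C, ∃ (κ : Type u) (Y : κ → C) (g : ∀ k, Y k ⟶ X),
      Sieve.ofArrows Y g ∈ J X ∧ ∀ k, Y k ∈ B)
    (hB₂ : ∀ U ∈ B, CohCx.IsQcObject (QC.hsh J U))
    {P G : ModSite.Mod O} (π : P ⟶ G) [Epi π] {U : C} (hU : U ∈ B) (s : G.val.obj (op U)) :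
    ∃ (n : ℕ) (W : Fin n → C) (g : ∀ k, W k ⟶ U) (t : ∀ k, P.val.obj (op (W k))),
      (∀ k, W k ∈ B) ∧ Sieve.ofArrows W g ∈ J U ∧
      ∀ k, π.val.app (op (W k)) (t k) = G.val.map (g k).op s := by
  obtain ⟨S, hS, hS'⟩ := Groth.Agent.H45.FinFree.locSurj_of_epi π U s
  obtain ⟨n, W, g, hgS, hWB, hcov⟩ := exists_finite_B_cover B hB₁ (hB₂ U hU) S hS
  choose t ht using fun k => hS' (g k) (hgS k)
  exact ⟨n, W, g, t, hWB, hcov, ht⟩

/-- Given an epimorphism `π_G : P_G ⟶ G`, a finite direct sum `∐ freeOn (U i)` with a map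
`a : ∐ freeOn (U i) ⟶ G`, there are a finite direct sum `Q`, an epimorphism `q : Q ⟶ ∐ freeOn (U i)`
and a lift `β : Q ⟶ P_G` of `q ≫ a`. -/
theorem exists_lift_cover
    (hB₁ : ∀ X : C, ∃ (κ : Type u) (Y : κ → C) (g : ∀ k, Y k ⟶ X),
      Sieve.ofArrows Y g ∈ J X ∧ ∀ k, Y k ∈ B)
    (hB₂ : ∀ U ∈ B, CohCx.IsQcObject (QC.hsh J U))
    {P G : ModSite.Mod O} (π : P ⟶ G) [Epi π] {I : Type} [Finite I] (U : I → C)
    (hU : ∀ i, U i ∈ B) (a : (∐ fun i => ModSite.freeOn O (U i)) ⟶ G) :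
    ∃ (Q : ModSite.Mod O) (q : Q ⟶ ∐ fun i => ModSite.freeOn O (U i)) (β : Q ⟶ P),
      IsFinSum O B Q ∧ Epi q ∧ β ≫ π = q ≫ a := by
  let f : I → ModSite.Mod O := fun i => ModSite.freeOn O (U i)
  let s : ∀ i, G.val.obj (op (U i)) := fun i => freeOnHomEquiv O (U i) G (Sigma.ι f i ≫ a)
  choose n W g t hWB hcov ht using fun i => exists_local_lifts hB₁ hB₂ π (hU i) (s i)
  let K : Type := Σ i : I, Fin (n i)
  let fQ : K → ModSite.Mod O := fun x => ModSite.freeOn O (W x.1 x.2)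
  let q : ∐ fQ ⟶ ∐ f := Sigma.desc (fun x => freeOnMap O (g x.1 x.2) ≫ Sigma.ι f x.1)
  let β : ∐ fQ ⟶ P := Sigma.desc (fun x => (freeOnHomEquiv O (W x.1 x.2) P).symm (t x.1 x.2))
  refine ⟨∐ fQ, q, β, isFinSum_sigma (fun x : K => W x.1 x.2) (fun x => hWB x.1 x.2), ?_, ?_⟩
  · refine ⟨fun {T} c d hcd => ?_⟩
    apply Sigma.hom_ext
    intro i
    apply (freeOnHomEquiv O (U i) T).injective
    apply sect_ext_of_cover O T (W i) (g i) (hcov i)
    intro k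
    rw [← freeOnHomEquiv_freeOnMap_comp, ← freeOnHomEquiv_freeOnMap_comp]
    have h1 := congrArg (fun x => Sigma.ι fQ ⟨i, k⟩ ≫ x) hcd
    simp only [q, colimit.ι_desc_assoc, Cofan.mk_pt, Cofan.mk_ι_app, Category.assoc] at h1
    rw [h1]
  · apply Sigma.hom_ext
    rintro ⟨i, k⟩
    simp only [q, β, colimit.ι_desc_assoc, Cofan.mk_pt, Cofan.mk_ι_app, Category.assoc]
    rw [← freeOnHomEquiv_symm_naturality, ht i k]
    have h2 : Sigma.ι f i ≫ a = (freeOnHomEquiv O (U i) G).symm (s i) :=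
      ((freeOnHomEquiv O (U i) G).symm_apply_apply _).symm
    rw [h2, freeOnMap_comp_symm]

/-- **Cokernels of maps between modules of type A are of type A.** -/
theorem isTypeA_cokernel
    (hB₁ : ∀ X : C, ∃ (κ : Type u) (Y : κ → C) (g : ∀ k, Y k ⟶ X),
      Sieve.ofArrows Y g ∈ J X ∧ ∀ k, Y k ∈ B)
    (hB₂ : ∀ U ∈ B, CohCx.IsQcObject (QC.hsh J U))
    {F G : ModSite.Mod O} (α : F ⟶ G) (hF : IsTypeA O B F) (hG : IsTypeA O B G) :
    IsTypeA O B (cokernel α) := by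
  obtain ⟨R_F, P_F, ψ_F, hRF, hPF, ⟨eF⟩⟩ := hF
  obtain ⟨R_G, P_G, ψ_G, hRG, hPG, ⟨eG⟩⟩ := hG
  obtain ⟨I, hI, U, hU, ⟨eP⟩⟩ := hPF
  let π_F : (∐ fun i => ModSite.freeOn O (U i)) ⟶ F := eP.inv ≫ cokernel.π ψ_F ≫ eF.inv
  haveI : Epi π_F := by
    dsimp only [π_F]
    infer_instance
  let π_G : P_G ⟶ G := cokernel.π ψ_G ≫ eG.inv
  have w : ψ_G ≫ π_G = 0 := by simp [π_G]
  have hπ : IsColimit (CokernelCofork.ofπ π_G w) :=
    IsCokernel.cokernelIso ψ_G π_G (cokernelIsCokernel ψ_G) eG.symm rfl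
  haveI : Epi π_G := epi_of_isColimit_cofork hπ
  obtain ⟨Q, q, β, hQ, hq, comm⟩ := exists_lift_cover hB₁ hB₂ π_G U hU (π_F ≫ α)
  haveI := hq
  exact ⟨R_G ⊞ Q, P_G, biprod.desc ψ_G β, hRG.biprod hQ, hPG,
    ⟨cokernelIsoOfLift ψ_G π_G w hπ (q ≫ π_F) α β (comm.trans (Category.assoc _ _ _).symm)⟩⟩

end Groth.Agent.H45.TypeA
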