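import Groth.Agent.H45.TypeA.Biprod
import Mathlib.CategoryTheory.Filtered.Basic
import Mathlib.CategoryTheory.Comma.Over.Basic

/-!
# The filtered category of modules of type A over a given module
-/

set_option autoImplicit false
universe u
open CategoryTheory CategoryTheory.Limits Opposite

namespace Groth.Agent.H45.TypeA

variable {C : Type u} [SmallCategory C] {J : GrothendieckTopology C}
  (O : Sheaf J CommRingCat.{u}) (B : Set C) (F : ModSite.Mod O)

/-- A presentation of a module of type A together with a map to `F`. -/
structure Pres where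
  /-- number of relations -/
  m : ℕ
  /-- number of generators -/
  n : ℕ
  /-- the objects of the relations -/
  V : Fin m → C
  /-- the objects of the generators -/
  U : Fin n → C
  /-- the presentation map -/
  ψ : (∐ fun j => ModSite.freeOn O (V j)) ⟶ ∐ fun i => ModSite.freeOn O (U i)
  hV : ∀ j, V j ∈ B
  hU : ∀ i, U i ∈ B
  /-- the map to `F` -/
  a : cokernel ψ ⟶ F

variable {O B F}

/-- The object of `Over F` of a presentation. -/
noncomputable def Pres.toOver (X : Pres O B F) : Over F := Over.mk X.a

variable (O B F) in
/-- The category of presentations over `F`. -/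
abbrev PresCat : Type u := InducedCategory (Over F) (Pres.toOver (O := O) (B := B) (F := F))

variable (O B F) in
/-- The diagram of modules of type A over `F`. -/
noncomputable abbrev presDiagram : PresCat O B F ⥤ ModSite.Mod O :=
  inducedFunctor _ ⋙ Over.forget F

lemma presDiagram_obj (X : PresCat O B F) : (presDiagram O B F).obj X = cokernel X.ψ := rfl

variable (O B F) in
/-- The cocone with point `F`. -/
noncomputable def presCocone : Cocone (presDiagram O B F) where
  pt := F
  ι :=
    { app := fun X => X.a
      naturality := fun X Y f => by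
        have := Over.w f.hom
        simp only [Functor.const_obj_obj, Functor.const_obj_map, Category.comp_id]
        exact this }

lemma isTypeA_presDiagram_obj (X : PresCat O B F) : IsTypeAStmt O B ((presDiagram O B F).obj X) :=
  ⟨X.m, X.n, X.V, X.U, X.ψ, X.hV, X.hU, ⟨Iso.refl _⟩⟩

/-- Every module of type A over `F` is represented by an object of `PresCat`. -/
lemma exists_pres {A' : ModSite.Mod O} (hA : IsTypeA O B A') (a' : A' ⟶ F) :
    ∃ (X : PresCat O B F) (e : A' ≅ (presDiagram O B F).obj X), e.hom ≫ X.a = a' := by
  obtain ⟨m, n, V, U, ψ, hV, hU, ⟨e⟩⟩ := hA.stmt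
  exact ⟨⟨m, n, V, U, ψ, hV, hU, e.inv ≫ a'⟩, e, e.hom_inv_id_assoc a'⟩

/-- Morphisms of `PresCat` from maps of modules over `F`. -/
noncomputable def presHomMk {X Y : PresCat O B F}
    (g : (presDiagram O B F).obj X ⟶ (presDiagram O B F).obj Y) (w : g ≫ Y.a = X.a) : X ⟶ Y :=
  InducedCategory.homMk (Over.homMk g w)

@[simp]
lemma presDiagram_map_presHomMk {X Y : PresCat O B F}
    (g : (presDiagram O B F).obj X ⟶ (presDiagram O B F).obj Y) (w : g ≫ Y.a = X.a) :
    (presDiagram O B F).map (presHomMk g w) = g := rfl

lemma presDiagram_map_comp_a {X Y : PresCat O B F} (f : X ⟶ Y) :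
    (presDiagram O B F).map f ≫ Y.a = X.a := Over.w f.hom

lemma presHom_ext {X Y : PresCat O B F} {f g : X ⟶ Y}
    (h : (presDiagram O B F).map f = (presDiagram O B F).map g) : f = g := by
  apply InducedCategory.hom_ext
  exact Over.OverMorphism.ext h

end Groth.Agent.H45.TypeA
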