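import Groth.Agent.H45.TypeA.ColimitCat

/-!
# The category of modules of type A over a given module is filtered
-/

set_option autoImplicit false
universe u
open CategoryTheory CategoryTheory.Limits Opposite

namespace Groth.Agent.H45.TypeA

variable {C : Type u} [SmallCategory C] {J : GrothendieckTopology C}
  {O : Sheaf J CommRingCat.{u}} {B : Set C} {F : ModSite.Mod O}

theorem isFiltered_presCat
    (hB₁ : ∀ X : C, ∃ (κ : Type u) (Y : κ → C) (g : ∀ k, Y k ⟶ X),
      Sieve.ofArrows Y g ∈ J X ∧ ∀ k, Y k ∈ B)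
    (hB₂ : ∀ U ∈ B, CohCx.IsQcObject (QC.hsh J U)) : IsFiltered (PresCat O B F) := by
  haveI : IsFilteredOrEmpty (PresCat O B F) := by
    refine ⟨fun X Y => ?_, fun X Y f g => ?_⟩
    · have hX : IsTypeA O B ((presDiagram O B F).obj X) :=
        IsTypeA.of_stmt (isTypeA_presDiagram_obj X)
      have hY : IsTypeA O B ((presDiagram O B F).obj Y) :=
        IsTypeA.of_stmt (isTypeA_presDiagram_obj Y)
      obtain ⟨Z, e, he⟩ := exists_pres (hX.biprod hY) (biprod.desc X.a Y.a)
      refine ⟨Z, presHomMk (biprod.inl ≫ e.hom) ?_, presHomMk (biprod.inr ≫ e.hom) ?_, trivial⟩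
      · rw [Category.assoc, he, biprod.inl_desc]
      · rw [Category.assoc, he, biprod.inr_desc]
    · have hX : IsTypeA O B ((presDiagram O B F).obj X) :=
        IsTypeA.of_stmt (isTypeA_presDiagram_obj X)
      have hY : IsTypeA O B ((presDiagram O B F).obj Y) :=
        IsTypeA.of_stmt (isTypeA_presDiagram_obj Y)
      let δ := (presDiagram O B F).map f - (presDiagram O B F).map g
      have hδ : δ ≫ Y.a = 0 := by
        rw [Preadditive.sub_comp, presDiagram_map_comp_a, presDiagram_map_comp_a, sub_self]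
      obtain ⟨Z, e, he⟩ := exists_pres (isTypeA_cokernel hB₁ hB₂ δ hX hY)
        (cokernel.desc δ Y.a hδ)
      refine ⟨Z, presHomMk (cokernel.π δ ≫ e.hom) ?_, ?_⟩
      · rw [Category.assoc, he, cokernel.π_desc]
      · apply presHom_ext
        rw [Functor.map_comp, Functor.map_comp, presDiagram_map_presHomMk, ← sub_eq_zero,
          ← Preadditive.sub_comp]
        change δ ≫ _ = 0
        rw [cokernel.condition_assoc, zero_comp]
  haveI : Nonempty (PresCat O B F) :=
    ⟨(⟨0, 0, fun j => j.elim0, fun j => j.elim0, 0, fun j => j.elim0, fun j => j.elim0, 0⟩ :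
      Pres O B F)⟩
  exact {}

end Groth.Agent.H45.TypeA
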