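import Groth.Agent.H45.QC.FreeOnCompact

/-!
# Maps from `j_{W!} O_W` (`W` quasi-compact) to a direct sum are finite sums
-/

set_option autoImplicit false
universe u
open CategoryTheory CategoryTheory.Limits Opposite

namespace Groth.Agent.H45.TypeA

open Groth.Agent.H31 (freeOnHomEquiv freeOnHomEquiv_naturality freeOnHomEquiv_symm_naturality)

open Classical in
/-- Elements of a coproduct of abelian groups are finite sums of elements of the summands. -/
lemma exists_finset_sum_of_isColimit {ι : Type u} {K : Discrete ι ⥤ AddCommGrpCat.{u}}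
    (c : Cocone K) (hc : IsColimit c) (σ : c.pt) :
    ∃ (T : Finset ι) (y : ∀ i, K.obj ⟨i⟩), σ = ∑ i ∈ T, (c.ι.app ⟨i⟩).hom (y i) := by
  let A : ι → Type u := fun i => (K.obj ⟨i⟩ : Type u)
  let r : c.pt ⟶ AddCommGrpCat.of (DirectSum ι A) :=
    hc.desc ⟨AddCommGrpCat.of (DirectSum ι A),
      Discrete.natTrans (fun i => AddCommGrpCat.ofHom (DirectSum.of A i.as))⟩
  let leg : ∀ i, A i →+ c.pt := fun i => (c.ι.app ⟨i⟩).hom
  let w : AddCommGrpCat.of (DirectSum ι A) ⟶ c.pt :=
    AddCommGrpCat.ofHom (DirectSum.toAddMonoid leg)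
  have hw : ∀ i (a : A i), w.hom (DirectSum.of A i a) = leg i a :=
    fun i a => DirectSum.toAddMonoid_of leg i a
  have hrw : r ≫ w = 𝟙 _ := by
    apply hc.hom_ext
    rintro ⟨i⟩
    rw [hc.fac_assoc, Category.comp_id]
    ext a
    exact hw i a
  have e : w.hom (r.hom σ) = σ := ConcreteCategory.congr_hom hrw σ
  let x : DirectSum ι A := r.hom σ
  refine ⟨DFinsupp.support x, fun i => x i, ?_⟩
  have hx : x = ∑ i ∈ DFinsupp.support x, DirectSum.of A i (x i) :=
    (DirectSum.sum_support_of x).symm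
  have h1 : w.hom x = ∑ i ∈ DFinsupp.support x, leg i (x i) := by
    conv_lhs => rw [hx]
    rw [map_sum]
    exact Finset.sum_congr rfl (fun i _ => hw i (x i))
  rw [← e]
  exact h1

variable {C : Type u} [SmallCategory C] {J : GrothendieckTopology C}
  (O : Sheaf J CommRingCat.{u})

/-- A map from `j_{W!} O_W`, `W` quasi-compact, to a direct sum is a finite sum of maps to the
summands. -/
theorem exists_finset_sum_hom {W : C} (hqc : CohCx.IsQcObject (QC.hsh J W)) {ι : Type u}
    (M : ι → ModSite.Mod O) (t : ModSite.freeOn O W ⟶ ∐ M) :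
    ∃ (T : Finset ι) (tt : ∀ i, ModSite.freeOn O W ⟶ M i), t = ∑ i ∈ T, tt i ≫ Sigma.ι M i := by
  haveI : PreservesColimitsOfShape (Discrete ι)
      (SheafOfModules.toSheaf.{u} (ModSite.ringSh O)) :=
    (Groth.Agent.H45.preservesColimits_toSheaf O).preservesColimitsOfShape
  haveI := QC.preservesColimitsOfShape_sections hqc ι
  haveI : PreservesColimitsOfShape (Discrete ι) (QC.secMod O W) :=
    comp_preservesColimitsOfShape _ _
  have hc' : IsColimit ((QC.secMod O W).mapCocone (colimit.cocone (Discrete.functor M))) :=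
    isColimitOfPreserves _ (colimit.isColimit _)
  obtain ⟨T, y, hy⟩ := exists_finset_sum_of_isColimit _ hc' (freeOnHomEquiv O W _ t)
  let y' : ∀ i, (M i).val.obj (op W) := fun i => y i
  refine ⟨T, fun i => (freeOnHomEquiv O W (M i)).symm (y' i), ?_⟩
  apply (freeOnHomEquiv O W _).injective
  refine hy.trans ?_
  have hadd : ∀ (S : Finset ι) (f : ι → (ModSite.freeOn O W ⟶ ∐ M)),
      freeOnHomEquiv O W _ (∑ i ∈ S, f i) = ∑ i ∈ S, freeOnHomEquiv O W _ (f i) :=
    fun S f => map_sum (QC.freeOnHomAddEquiv O W (∐ M)) f S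
  rw [hadd]
  refine Finset.sum_congr rfl (fun i _ => ?_)
  rw [freeOnHomEquiv_naturality, Equiv.apply_symm_apply]
  rfl

end Groth.Agent.H45.TypeA
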