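import Groth.Agent.H45.TypeA.ColimitFiltered
import Groth.Agent.H45.TypeA.FinSumHom

/-!
# Every module is the filtered colimit of the modules of type A over it
-/

set_option autoImplicit false
universe u
open CategoryTheory CategoryTheory.Limits Opposite

namespace Groth.Agent.H45.TypeA

variable {C : Type u} [SmallCategory C] {J : GrothendieckTopology C}
  {O : Sheaf J CommRingCat.{u}} {B : Set C} {F : ModSite.Mod O}

lemma isFinSum_freeOn {U : C} (hU : U ∈ B) : IsFinSum O B (ModSite.freeOn O U) :=
  ⟨Unit, inferInstance, fun _ => U, fun _ => hU,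
    ⟨(coproductUniqueIso (fun _ : Unit => ModSite.freeOn O U)).symm⟩⟩

lemma separating_of_B
    (hB₁ : ∀ X : C, ∃ (κ : Type u) (Y : κ → C) (g : ∀ k, Y k ⟶ X),
      Sieve.ofArrows Y g ∈ J X ∧ ∀ k, Y k ∈ B)
    {M N : ModSite.Mod O} (f g : M ⟶ N)
    (h : ∀ U ∈ B, ∀ s : ModSite.freeOn O U ⟶ M, s ≫ f = s ≫ g) : f = g := by
  apply Groth.Agent.H31.freeOn_isSeparating O B hB₁
  rintro _ ⟨X⟩ s
  exact h X.1 X.2 s

section

variable
    (hB₁ : ∀ X : C, ∃ (κ : Type u) (Y : κ → C) (g : ∀ k, Y k ⟶ X),
      Sieve.ofArrows Y g ∈ J X ∧ ∀ k, Y k ∈ B)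
    (hB₂ : ∀ U ∈ B, CohCx.IsQcObject (QC.hsh J U))

variable (O B F) in
/-- The comparison map from the colimit of the type A modules over `F` to `F`. -/
noncomputable abbrev presDesc : colimit (presDiagram O B F) ⟶ F :=
  colimit.desc (presDiagram O B F) (presCocone O B F)

lemma ι_presDesc (X : PresCat O B F) :
    colimit.ι (presDiagram O B F) X ≫ presDesc O B F = X.a :=
  colimit.ι_desc _ _

include hB₁ in
lemma epi_presDesc : Epi (presDesc O B F) := by
  apply Preadditive.epi_of_cancel_zero
  intro T t ht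
  apply separating_of_B hB₁
  intro U hU s
  obtain ⟨X, e, he⟩ := exists_pres (isFinSum_freeOn (O := O) hU).isTypeA s
  rw [comp_zero, ← he, ← ι_presDesc X, Category.assoc, Category.assoc, ht, comp_zero, comp_zero]

variable (O B F) in
/-- The canonical epimorphism from the coproduct to the colimit. -/
noncomputable abbrev presSigma :
    (∐ fun X : PresCat O B F => (presDiagram O B F).obj X) ⟶ colimit (presDiagram O B F) :=
  Sigma.desc (fun X => colimit.ι (presDiagram O B F) X)

instance : Epi (presSigma O B F) := by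
  refine ⟨fun {T} f g hfg => ?_⟩
  apply colimit.hom_ext
  intro X
  have h := congrArg
    (fun x => Sigma.ι (fun X : PresCat O B F => (presDiagram O B F).obj X) X ≫ x) hfg
  have h' : (Sigma.ι (fun X : PresCat O B F => (presDiagram O B F).obj X) X ≫ presSigma O B F) ≫ f =
      (Sigma.ι (fun X : PresCat O B F => (presDiagram O B F).obj X) X ≫ presSigma O B F) ≫ g := by
    rw [Category.assoc, Category.assoc]
    exact h
  rw [Sigma.ι_desc] at h'
  exact h'

include hB₁ hB₂ in
/-- A map `j_{W!} O_W ⟶ ∐ A_λ` whose image in `F` vanishes has vanishing image in the colimit. -/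
lemma comp_presSigma_eq_zero {W : C} (hW : W ∈ B)
    (t : ModSite.freeOn O W ⟶ ∐ fun X : PresCat O B F => (presDiagram O B F).obj X)
    (ht : (t ≫ presSigma O B F) ≫ presDesc O B F = 0) : t ≫ presSigma O B F = 0 := by
  classical
  haveI := isFiltered_presCat (O := O) (B := B) (F := F) hB₁ hB₂
  obtain ⟨T, tt, htt⟩ := exists_finset_sum_hom O (hB₂ W hW)
    (fun X : PresCat O B F => (presDiagram O B F).obj X) t
  obtain ⟨S, hS⟩ := IsFiltered.sup_objs_exists T
  let u : ∀ X : T, (X.1 ⟶ S) := fun X => (hS X.2).some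
  let z : ModSite.freeOn O W ⟶ (presDiagram O B F).obj S :=
    ∑ X ∈ T.attach, tt X.1 ≫ (presDiagram O B F).map (u X)
  have hz : t ≫ presSigma O B F = z ≫ colimit.ι (presDiagram O B F) S := by
    rw [htt, Preadditive.sum_comp, Preadditive.sum_comp, ← Finset.sum_attach]
    refine Finset.sum_congr rfl (fun X _ => ?_)
    rw [Category.assoc, Category.assoc, colimit.ι_desc, colimit.w]
    rfl
  have hz0 : z ≫ S.a = 0 := by
    rw [← ι_presDesc S, ← Category.assoc, ← hz, ht]
  have hTA : IsTypeA O B (cokernel z) :=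
    isTypeA_cokernel hB₁ hB₂ z (isFinSum_freeOn (O := O) hW).isTypeA
      (IsTypeA.of_stmt (isTypeA_presDiagram_obj S))
  obtain ⟨Z, e, he⟩ := exists_pres hTA (cokernel.desc z S.a hz0)
  let v : S ⟶ Z := presHomMk (cokernel.π z ≫ e.hom) (by rw [Category.assoc, he, cokernel.π_desc])
  rw [hz, ← colimit.w (presDiagram O B F) v, presDiagram_map_presHomMk, ← Category.assoc,
    ← Category.assoc, cokernel.condition, zero_comp, zero_comp]

include hB₁ hB₂ in
lemma mono_presDesc : Mono (presDesc O B F) := by
  apply Preadditive.mono_of_cancel_zero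
  intro T x hx
  apply separating_of_B hB₁
  intro U hU s
  rw [comp_zero]
  -- reduce to `y : freeOn U ⟶ colimit` with `y ≫ presDesc = 0`
  set y := s ≫ x with hy
  have hy0 : y ≫ presDesc O B F = 0 := by rw [hy, Category.assoc, hx, comp_zero]
  let fU : Unit → ModSite.Mod O := fun _ => ModSite.freeOn O U
  let a : (∐ fU) ⟶ colimit (presDiagram O B F) := (coproductUniqueIso fU).hom ≫ y
  obtain ⟨D', β, comm⟩ := exists_coverData_lift hB₁ hB₂ (presSigma O B F) (fun _ : Unit => U)
    (fun _ => hU) a
  have h1 : D'.q O ≫ a = 0 := by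
    apply Sigma.hom_ext
    intro k
    rw [comp_zero, ← comm, ← Category.assoc]
    apply comp_presSigma_eq_zero hB₁ hB₂ (D'.hW k.1 k.2)
    have : a ≫ presDesc O B F = 0 := by
      simp only [a, Category.assoc, hy0, comp_zero]
    simp only [Category.assoc]
    rw [reassoc_of% comm, this, comp_zero, comp_zero]
  have h2 : a = 0 := by rw [← cancel_epi (D'.q O), h1, comp_zero]
  have h3 : y = (coproductUniqueIso fU).inv ≫ a := by simp [a]
  rw [h3, h2, comp_zero]

include hB₁ hB₂ in
theorem isIso_presDesc : IsIso (presDesc O B F) := by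
  haveI := epi_presDesc (O := O) (B := B) (F := F) hB₁
  haveI := mono_presDesc (O := O) (B := B) (F := F) hB₁ hB₂
  exact isIso_of_mono_of_epi _

include hB₁ hB₂ in
/-- **Every module is the filtered colimit of the modules of type A over it.** -/
theorem nonempty_isColimit_presCocone : Nonempty (IsColimit (presCocone O B F)) := by
  haveI : IsIso ((colimit.isColimit (presDiagram O B F)).desc (presCocone O B F)) :=
    isIso_presDesc (O := O) (B := B) (F := F) hB₁ hB₂
  exact ⟨IsColimit.ofPointIso (colimit.isColimit (presDiagram O B F))⟩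

end

end Groth.Agent.H45.TypeA
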