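import Groth.Agent.H31.FreeOn

/-!
# Functoriality of `j_{U!} O_U` in `U`
-/

set_option autoImplicit false
universe u
open CategoryTheory CategoryTheory.Limits Opposite

namespace Groth.Agent.H45.TypeA

open Groth.Agent.H31 (freeOnHomEquiv freeOnHomEquiv_naturality)

variable {C : Type u} [SmallCategory C] {J : GrothendieckTopology C}
  (O : Sheaf J CommRingCat.{u})

/-- The tautological section of `j_{U!} O_U` over `U`. -/
noncomputable def unitSec (U : C) : (ModSite.freeOn O U).val.obj (op U) :=
  freeOnHomEquiv O U _ (𝟙 _)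

lemma freeOnHomEquiv_eq {U : C} {T : ModSite.Mod O} (h : ModSite.freeOn O U ⟶ T) :
    freeOnHomEquiv O U T h = h.val.app (op U) (unitSec O U) := by
  have := freeOnHomEquiv_naturality O U (𝟙 _) h
  rwa [Category.id_comp] at this

/-- The map `j_{W!} O_W ⟶ j_{U!} O_U` induced by `g : W ⟶ U`. -/
noncomputable def freeOnMap {W U : C} (g : W ⟶ U) : ModSite.freeOn O W ⟶ ModSite.freeOn O U :=
  (freeOnHomEquiv O W _).symm ((ModSite.freeOn O U).val.map g.op (unitSec O U))

lemma freeOnHomEquiv_freeOnMap_comp {W U : C} (g : W ⟶ U) {T : ModSite.Mod O}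
    (h : ModSite.freeOn O U ⟶ T) :
    freeOnHomEquiv O W T (freeOnMap O g ≫ h) = T.val.map g.op (freeOnHomEquiv O U T h) := by
  rw [freeOnHomEquiv_naturality, freeOnMap, Equiv.apply_symm_apply, freeOnHomEquiv_eq O h]
  exact (PresheafOfModules.naturality_apply h.val g.op (unitSec O U))

lemma freeOnMap_comp_symm {W U : C} (g : W ⟶ U) {T : ModSite.Mod O} (s : T.val.obj (op U)) :
    freeOnMap O g ≫ (freeOnHomEquiv O U T).symm s =
      (freeOnHomEquiv O W T).symm (T.val.map g.op s) := by
  apply (freeOnHomEquiv O W T).injective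
  rw [freeOnHomEquiv_freeOnMap_comp, Equiv.apply_symm_apply, Equiv.apply_symm_apply]

end Groth.Agent.H45.TypeA
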