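import Groth.Agent.H45.QC.FiniteSubcover
import Groth.Agent.H45.TypeA.FreeOnMap

/-!
# Finite covers by members of a basis, and the induced epimorphisms of free modules
-/

set_option autoImplicit false
universe u
open CategoryTheory CategoryTheory.Limits Opposite

namespace Groth.Agent.H45.TypeA

open Groth.Agent.H31 (freeOnHomEquiv freeOnHomEquiv_naturality)

variable {C : Type u} [SmallCategory C] {J : GrothendieckTopology C}

/-- Finite subcover, indexed by `Fin n`. -/
theorem exists_fin_subcover {W : C} (hW : CohCx.IsQcObject (QC.hsh J W))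
    {κ : Type u} (Yf : κ → C) (g : ∀ k, Yf k ⟶ W) (hg : Sieve.ofArrows Yf g ∈ J W) :
    ∃ (n : ℕ) (e : Fin n → κ), Sieve.ofArrows (fun i => Yf (e i)) (fun i => g (e i)) ∈ J W := by
  classical
  obtain ⟨t, ht⟩ := QC.exists_finite_subcover J hW Yf g hg
  let e := t.equivFin
  refine ⟨t.card, fun i => (e.symm i).1, ?_⟩
  refine J.superset_covering ?_ ht
  rintro V h ⟨Z, a, b, ⟨k⟩, hab⟩
  have key : ∀ (k' : t) (hk : k' = k),
      Sieve.ofArrows (fun i => Yf (e.symm i).1) (fun i => g (e.symm i).1) (a ≫ g k.1) := by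
    rintro k' rfl
    exact ⟨_, a ≫ eqToHom (by rw [Equiv.symm_apply_apply]), g (e.symm (e k')).1, ⟨e k'⟩, by
      have : ∀ (k'' : t) (hk : k'' = k'),
          (a ≫ eqToHom (by rw [hk])) ≫ g k''.1 = a ≫ g k'.1 := by
        rintro k'' rfl
        simp
      exact this _ (Equiv.symm_apply_apply e k')⟩
  rw [← hab]
  exact key k rfl

/-- A covering sieve of a quasi-compact object contains a finite covering family by members of
`B`, if every object is covered by members of `B`. -/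
theorem exists_finite_B_cover (B : Set C)
    (hB₁ : ∀ X : C, ∃ (κ : Type u) (Y : κ → C) (g : ∀ k, Y k ⟶ X),
      Sieve.ofArrows Y g ∈ J X ∧ ∀ k, Y k ∈ B)
    {U : C} (hU : CohCx.IsQcObject (QC.hsh J U)) (S : Sieve U) (hS : S ∈ J U) :
    ∃ (n : ℕ) (W : Fin n → C) (g : ∀ k, W k ⟶ U),
      (∀ k, S (g k)) ∧ (∀ k, W k ∈ B) ∧ Sieve.ofArrows W g ∈ J U := by
  let κ : Type u := Σ V : C, {h : V ⟶ U // S h ∧ V ∈ B}
  have hcov : Sieve.ofArrows (fun k : κ => k.1) (fun k : κ => k.2.1) ∈ J U := by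
    refine J.transitive hS _ ?_
    intro V h hh
    obtain ⟨κ', Yf, g, hg, hY⟩ := hB₁ V
    refine J.superset_covering ?_ hg
    rintro V' h' ⟨Z, a, b, ⟨k⟩, hab⟩
    refine ⟨Yf k, a, g k ≫ h, ⟨(⟨Yf k, g k ≫ h, S.downward_closed hh _, hY k⟩ : κ)⟩, ?_⟩
    rw [← hab, Category.assoc]
  obtain ⟨n, e, he⟩ := exists_fin_subcover hU (fun k : κ => k.1) (fun k : κ => k.2.1) hcov
  exact ⟨n, fun i => (e i).1, fun i => (e i).2.1, fun i => (e i).2.2.1, fun i => (e i).2.2.2, he⟩

end Groth.Agent.H45.TypeA
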