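import Groth.Agent.H45.TypeA.CechFG

/-!
# Extensions of modules of type A are of type A
-/

set_option autoImplicit false
universe u
open CategoryTheory CategoryTheory.Limits Opposite

namespace Groth.Agent.H45.TypeA

open Groth.Agent.H31 (freeOnHomEquiv freeOnHomEquiv_naturality freeOnHomEquiv_symm_naturality
  sect_ext_of_cover)

variable {C : Type u} [SmallCategory C] {J : GrothendieckTopology C}
  {O : Sheaf J CommRingCat.{u}} {B : Set C}

/-- Version of `exists_lift_cover` remembering the shape of the cover. -/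
theorem exists_coverData_lift
    (hB₁ : ∀ X : C, ∃ (κ : Type u) (Y : κ → C) (g : ∀ k, Y k ⟶ X),
      Sieve.ofArrows Y g ∈ J X ∧ ∀ k, Y k ∈ B)
    (hB₂ : ∀ U ∈ B, CohCx.IsQcObject (QC.hsh J U))
    {P G : ModSite.Mod O} (π : P ⟶ G) [Epi π] {I : Type} [Finite I] (U : I → C)
    (hU : ∀ i, U i ∈ B) (a : (∐ fun i => ModSite.freeOn O (U i)) ⟶ G) :
    ∃ (D : CoverData J B U) (β : D.src O ⟶ P), β ≫ π = D.q O ≫ a := by
  let f : I → ModSite.Mod O := fun i => ModSite.freeOn O (U i)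
  let s : ∀ i, G.val.obj (op (U i)) := fun i => freeOnHomEquiv O (U i) G (Sigma.ι f i ≫ a)
  choose n W g t hWB hcov ht using fun i => exists_local_lifts hB₁ hB₂ π (hU i) (s i)
  let D : CoverData J B U := ⟨n, W, g, hWB, hcov⟩
  let β : D.src O ⟶ P :=
    Sigma.desc (fun x : D.K => (freeOnHomEquiv O (W x.1 x.2) P).symm (t x.1 x.2))
  refine ⟨D, β, ?_⟩
  apply Sigma.hom_ext
  rintro ⟨i, k⟩
  conv_rhs => rw [← Category.assoc, D.ι_q, Category.assoc]
  simp only [β, colimit.ι_desc_assoc, Cofan.mk_pt, Cofan.mk_ι_app]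
  rw [← freeOnHomEquiv_symm_naturality, ht i k]
  have h2 : Sigma.ι f i ≫ a = (freeOnHomEquiv O (U i) G).symm (s i) :=
    ((freeOnHomEquiv O (U i) G).symm_apply_apply _).symm
  change _ = freeOnMap O (g i k) ≫ Sigma.ι f i ≫ a
  rw [h2, freeOnMap_comp_symm]

/-- The kernel of a composite `a ≫ b` with `a` an epimorphism is finitely generated if the kernels
of `a` and `b` are. -/
theorem isFG_kernel_comp
    (hB₁ : ∀ X : C, ∃ (κ : Type u) (Y : κ → C) (g : ∀ k, Y k ⟶ X),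
      Sieve.ofArrows Y g ∈ J X ∧ ∀ k, Y k ∈ B)
    (hB₂ : ∀ U ∈ B, CohCx.IsQcObject (QC.hsh J U))
    {X Y Z : ModSite.Mod O} (a : X ⟶ Y) [Epi a] (b : Y ⟶ Z)
    (ha : IsFG O B (kernel a)) (hb : IsFG O B (kernel b)) : IsFG O B (kernel (a ≫ b)) := by
  let f' : kernel a ⟶ kernel (a ≫ b) := kernel.lift (a ≫ b) (kernel.ι a)
    (by rw [← Category.assoc, kernel.condition, zero_comp])
  let g' : kernel (a ≫ b) ⟶ kernel b := kernel.lift b (kernel.ι (a ≫ b) ≫ a)
    (by rw [Category.assoc, kernel.condition])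
  have hf' : f' ≫ kernel.ι (a ≫ b) = kernel.ι a := kernel.lift_ι _ _ _
  have hg' : g' ≫ kernel.ι b = kernel.ι (a ≫ b) ≫ a := kernel.lift_ι _ _ _
  have zero : f' ≫ g' = 0 := by
    rw [← cancel_mono (kernel.ι b), Category.assoc, hg', ← Category.assoc, hf', kernel.condition,
      zero_comp]
  let S' := ShortComplex.mk f' g' zero
  have hex : S'.Exact := by
    rw [ShortComplex.exact_iff_exact_up_to_refinements]
    intro A x hx
    have h1 : (x ≫ kernel.ι (a ≫ b)) ≫ a = 0 := by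
      have := congrArg (fun y => y ≫ kernel.ι b) hx
      simp only [Category.assoc, zero_comp] at this
      rw [Category.assoc]
      rw [← hg']
      exact this
    refine ⟨A, 𝟙 A, inferInstance, kernel.lift a (x ≫ kernel.ι (a ≫ b)) h1, ?_⟩
    rw [Category.id_comp, ← cancel_mono (kernel.ι (a ≫ b))]
    change _ = (_ ≫ f') ≫ _
    rw [Category.assoc, hf', kernel.lift_ι]
  haveI : Epi S'.g := by
    rw [epi_iff_surjective_up_to_refinements]
    intro A y
    obtain ⟨A', π, hπ, x, hx⟩ := surjective_up_to_refinements_of_epi a (y ≫ kernel.ι b)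
    have h1 : x ≫ a ≫ b = 0 := by
      rw [← Category.assoc, ← hx, Category.assoc, Category.assoc, kernel.condition, comp_zero,
        comp_zero]
    refine ⟨A', π, hπ, kernel.lift (a ≫ b) x h1, ?_⟩
    rw [← cancel_mono (kernel.ι b)]
    change _ = (_ ≫ g') ≫ _
    rw [Category.assoc, Category.assoc, hg', kernel.lift_ι_assoc, hx]
  exact IsFG.extension hB₁ hB₂ S' hex ha hb

/-- Horseshoe-type lemma: for a short exact sequence `S`, an epimorphism `π₁ : P₁ ⟶ S.X₁` and a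
lift `β : Q ⟶ S.X₂` of an epimorphism `c : Q ⟶ S.X₃`, the map `P₁ ⊞ Q ⟶ S.X₂` is an epimorphism
whose kernel is finitely generated if the kernels of `π₁` and `c` are. -/
theorem epi_and_isFG_kernel_desc
    (hB₁ : ∀ X : C, ∃ (κ : Type u) (Y : κ → C) (g : ∀ k, Y k ⟶ X),
      Sieve.ofArrows Y g ∈ J X ∧ ∀ k, Y k ∈ B)
    (hB₂ : ∀ U ∈ B, CohCx.IsQcObject (QC.hsh J U))
    (S : ShortComplex (ModSite.Mod O)) (hS : S.ShortExact)
    {P₁ Q : ModSite.Mod O} (π₁ : P₁ ⟶ S.X₁) [Epi π₁] (β : Q ⟶ S.X₂) (c : Q ⟶ S.X₃) [Epi c]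
    (hβ : β ≫ S.g = c) (h₁ : IsFG O B (kernel π₁)) (hc : IsFG O B (kernel c)) :
    Epi (biprod.desc (π₁ ≫ S.f) β) ∧ IsFG O B (kernel (biprod.desc (π₁ ≫ S.f) β)) := by
  haveI := hS.mono_f
  haveI := hS.epi_g
  set π₂ : P₁ ⊞ Q ⟶ S.X₂ := biprod.desc (π₁ ≫ S.f) β with hπ₂
  have hinl : biprod.inl ≫ π₂ = π₁ ≫ S.f := biprod.inl_desc _ _
  have hinr : biprod.inr ≫ π₂ = β := biprod.inr_desc _ _
  have hπ₂g : π₂ ≫ S.g = biprod.snd ≫ c := by
    apply biprod.hom_ext'
    · rw [← Category.assoc, hinl, Category.assoc, S.zero, comp_zero, biprod.inl_snd_assoc,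
        zero_comp]
    · rw [← Category.assoc, hinr, hβ, biprod.inr_snd_assoc]
  constructor
  · apply Preadditive.epi_of_cancel_zero
    intro T t ht
    have h1 : (π₁ ≫ S.f) ≫ t = 0 := by
      rw [← hinl, Category.assoc, ht, comp_zero]
    have h2 : β ≫ t = 0 := by
      rw [← hinr, Category.assoc, ht, comp_zero]
    have h3 : S.f ≫ t = 0 := by
      rw [← cancel_epi π₁, ← Category.assoc, h1, comp_zero]
    have hcok := hS.exact.gIsCokernel
    let t' : S.X₃ ⟶ T := hcok.desc (CokernelCofork.ofπ t h3)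
    have ht' : S.g ≫ t' = t := hcok.fac (CokernelCofork.ofπ t h3) WalkingParallelPair.one
    have h4 : c ≫ t' = 0 := by
      rw [← hβ, Category.assoc, ht', h2]
    have h5 : t' = 0 := by
      rw [← cancel_epi c, h4, comp_zero]
    rw [← ht', h5, comp_zero]
  · let f' : kernel π₁ ⟶ kernel π₂ := kernel.lift π₂ (kernel.ι π₁ ≫ biprod.inl)
      (by rw [Category.assoc, hinl, kernel.condition_assoc, zero_comp])
    let g' : kernel π₂ ⟶ kernel c := kernel.lift c (kernel.ι π₂ ≫ biprod.snd)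
      (by rw [Category.assoc, ← hπ₂g, kernel.condition_assoc, zero_comp])
    have hf' : f' ≫ kernel.ι π₂ = kernel.ι π₁ ≫ biprod.inl := kernel.lift_ι _ _ _
    have hg' : g' ≫ kernel.ι c = kernel.ι π₂ ≫ biprod.snd := kernel.lift_ι _ _ _
    have zero : f' ≫ g' = 0 := by
      rw [← cancel_mono (kernel.ι c), Category.assoc, hg', ← Category.assoc, hf',
        Category.assoc, biprod.inl_snd, comp_zero, zero_comp]
    let S' := ShortComplex.mk f' g' zero
    have hex : S'.Exact := by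
      rw [ShortComplex.exact_iff_exact_up_to_refinements]
      intro A x hx
      have h0 : (x ≫ kernel.ι π₂) ≫ biprod.snd = 0 := by
        have := congrArg (fun y => y ≫ kernel.ι c) hx
        simp only [Category.assoc, zero_comp] at this
        rw [Category.assoc, ← hg']
        exact this
      have h1 : x ≫ kernel.ι π₂ = ((x ≫ kernel.ι π₂) ≫ biprod.fst) ≫ biprod.inl := by
        apply biprod.hom_ext
        · simp
        · rw [h0]
          simp
      have h2 : ((x ≫ kernel.ι π₂) ≫ biprod.fst) ≫ π₁ = 0 := by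
        rw [← cancel_mono S.f, Category.assoc, ← hinl, ← Category.assoc, ← h1, Category.assoc,
          kernel.condition, comp_zero, zero_comp]
      refine ⟨A, 𝟙 A, inferInstance, kernel.lift π₁ _ h2, ?_⟩
      rw [Category.id_comp, ← cancel_mono (kernel.ι π₂)]
      change _ = (_ ≫ f') ≫ _
      rw [Category.assoc, hf', kernel.lift_ι_assoc]
      exact h1
    haveI : Epi S'.g := by
      rw [epi_iff_surjective_up_to_refinements]
      intro A y
      have hy : (y ≫ kernel.ι c ≫ β) ≫ S.g = 0 := by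
        rw [Category.assoc, Category.assoc, hβ, kernel.condition, comp_zero]
      obtain ⟨A₁, p₁, hp₁, z, hz⟩ :=
        (ShortComplex.exact_iff_exact_up_to_refinements S).1 hS.exact _ hy
      obtain ⟨A₂, p₂, hp₂, x₁, hx₁⟩ := surjective_up_to_refinements_of_epi π₁ z
      let x : A₂ ⟶ P₁ ⊞ Q := biprod.lift (-x₁) (p₂ ≫ p₁ ≫ y ≫ kernel.ι c)
      have hx : x ≫ π₂ = 0 := by
        have e1 : x = (-x₁) ≫ biprod.inl + (p₂ ≫ p₁ ≫ y ≫ kernel.ι c) ≫ biprod.inr := by
          apply biprod.hom_ext <;> simp [x]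
        rw [e1, Preadditive.add_comp, Category.assoc, hinl, Category.assoc, hinr,
          Preadditive.neg_comp, ← Category.assoc x₁, ← hx₁]
        simp only [Category.assoc] at hz ⊢
        rw [hz]
        simp
      haveI : Epi (p₂ ≫ p₁) := epi_comp _ _
      refine ⟨A₂, p₂ ≫ p₁, inferInstance, kernel.lift π₂ x hx, ?_⟩
      rw [← cancel_mono (kernel.ι c)]
      change _ = (_ ≫ g') ≫ _
      simp only [Category.assoc]
      rw [hg', kernel.lift_ι_assoc]
      simp [x]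
    exact IsFG.extension hB₁ hB₂ S' hex h₁ hc

/-- **Extensions of modules of type A are of type A.** -/
theorem isTypeA_extension [HasPullbacks C]
    (hB₁ : ∀ X : C, ∃ (κ : Type u) (Y : κ → C) (g : ∀ k, Y k ⟶ X),
      Sieve.ofArrows Y g ∈ J X ∧ ∀ k, Y k ∈ B)
    (hB₂ : ∀ U ∈ B, CohCx.IsQcObject (QC.hsh J U))
    (hB₃ : ∀ (U U₁ U₂ : C) (f₁ : U₁ ⟶ U) (f₂ : U₂ ⟶ U), U ∈ B → U₁ ∈ B → U₂ ∈ B →
      CohCx.IsQcObject (QC.hsh J (pullback f₁ f₂)))
    (S : ShortComplex (ModSite.Mod O)) (hS : S.ShortExact)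
    (h₁ : IsTypeA O B S.X₁) (h₃ : IsTypeA O B S.X₃) : IsTypeA O B S.X₂ := by
  haveI := hS.mono_f
  haveI := hS.epi_g
  obtain ⟨P₁, π₁, hP₁, hπ₁, hK₁⟩ := h₁.exists_epi_isFG_kernel
  obtain ⟨P₃', π₃', hP₃', hπ₃', hK₃'⟩ := h₃.exists_epi_isFG_kernel
  obtain ⟨I, hI, U, hU, ⟨e⟩⟩ := hP₃'
  let π₃ : (∐ fun i => ModSite.freeOn O (U i)) ⟶ S.X₃ := e.inv ≫ π₃'
  haveI : Epi π₃ := epi_comp _ _
  have hK₃ : IsFG O B (kernel π₃) := hK₃'.of_iso (kernelIsIsoComp e.inv π₃').symm
  obtain ⟨D, β, comm⟩ := exists_coverData_lift hB₁ hB₂ S.g U hU π₃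
  have hKQ : IsFG O B (kernel (D.q O ≫ π₃)) :=
    isFG_kernel_comp hB₁ hB₂ (D.q O) π₃ (D.isFG_kernel_q hB₁ hB₃ hU) hK₃
  haveI : Epi (D.q O ≫ π₃) := epi_comp _ _
  obtain ⟨h2, h3⟩ := epi_and_isFG_kernel_desc hB₁ hB₂ S hS π₁ β (D.q O ≫ π₃) comm hK₁ hKQ
  haveI := h2
  exact isTypeA_of_epi_of_isFG_kernel _ (hP₁.biprod D.isFinSum_src) h3

end Groth.Agent.H45.TypeA
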