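import Groth.Agent.H45.TypeA.Cokernel
import Mathlib.CategoryTheory.Abelian.Refinements
import Mathlib.Algebra.Homology.ShortComplex.ShortExact

/-!
# Finitely generated modules (quotients of finite direct sums of `j_{U!} O_U`, `U ∈ B`)
-/

set_option autoImplicit false
universe u
open CategoryTheory CategoryTheory.Limits Opposite

namespace Groth.Agent.H45.TypeA

variable {C : Type u} [SmallCategory C] {J : GrothendieckTopology C}
  (O : Sheaf J CommRingCat.{u}) (B : Set C)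

/-- A quotient of a finite direct sum of modules `j_{V!} O_V` with `V ∈ B`. -/
def IsFG (K : ModSite.Mod O) : Prop :=
  ∃ (R : ModSite.Mod O) (ρ : R ⟶ K), IsFinSum O B R ∧ Epi ρ

variable {O B}

lemma IsFinSum.isFG {P : ModSite.Mod O} (h : IsFinSum O B P) : IsFG O B P :=
  ⟨P, 𝟙 P, h, inferInstance⟩

lemma IsFG.of_epi {K K' : ModSite.Mod O} (p : K ⟶ K') [Epi p] (h : IsFG O B K) : IsFG O B K' := by
  obtain ⟨R, ρ, hR, hρ⟩ := h
  exact ⟨R, ρ ≫ p, hR, epi_comp _ _⟩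

lemma IsFG.of_iso {K K' : ModSite.Mod O} (e : K ≅ K') (h : IsFG O B K) : IsFG O B K' :=
  h.of_epi e.hom

/-- Extensions of finitely generated modules are finitely generated. -/
theorem IsFG.extension
    (hB₁ : ∀ X : C, ∃ (κ : Type u) (Y : κ → C) (g : ∀ k, Y k ⟶ X),
      Sieve.ofArrows Y g ∈ J X ∧ ∀ k, Y k ∈ B)
    (hB₂ : ∀ U ∈ B, CohCx.IsQcObject (QC.hsh J U))
    (S : ShortComplex (ModSite.Mod O)) (hS : S.Exact) [Epi S.g]
    (h₁ : IsFG O B S.X₁) (h₃ : IsFG O B S.X₃) : IsFG O B S.X₂ := by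
  obtain ⟨R₁, ρ₁, hR₁, hρ₁⟩ := h₁
  obtain ⟨R₃, ρ₃, hR₃, hρ₃⟩ := h₃
  obtain ⟨I, hI, U, hU, ⟨e⟩⟩ := hR₃
  obtain ⟨Q, q, β, hQ, hq, comm⟩ := exists_lift_cover hB₁ hB₂ S.g U hU (e.inv ≫ ρ₃)
  refine ⟨R₁ ⊞ Q, biprod.desc (ρ₁ ≫ S.f) β, hR₁.biprod hQ, ?_⟩
  apply Preadditive.epi_of_cancel_zero
  intro T t ht
  have h1 : (ρ₁ ≫ S.f) ≫ t = 0 := by
    have := congrArg (fun x => biprod.inl ≫ x) ht
    simpa using this
  have h2 : β ≫ t = 0 := by
    have := congrArg (fun x => biprod.inr ≫ x) ht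
    simpa using this
  have h3 : S.f ≫ t = 0 := by
    rw [← cancel_epi ρ₁, ← Category.assoc, h1, comp_zero]
  have hcok := hS.gIsCokernel
  let t' : S.X₃ ⟶ T := hcok.desc (CokernelCofork.ofπ t h3)
  have ht' : S.g ≫ t' = t := hcok.fac (CokernelCofork.ofπ t h3) WalkingParallelPair.one
  have h4 : (q ≫ e.inv ≫ ρ₃) ≫ t' = 0 := by
    rw [← comm, Category.assoc, ht', h2]
  haveI : Epi (q ≫ e.inv ≫ ρ₃) := epi_comp _ _
  have h5 : t' = 0 := by
    rw [← cancel_epi (q ≫ e.inv ≫ ρ₃), h4, comp_zero]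
  rw [← ht', h5, comp_zero]

/-- A module with a finitely generated kernel of an epimorphism from a finite direct sum is of
type A. -/
theorem isTypeA_of_epi_of_isFG_kernel {P F : ModSite.Mod O} (π : P ⟶ F) [Epi π]
    (hP : IsFinSum O B P) (hK : IsFG O B (kernel π)) : IsTypeA O B F := by
  obtain ⟨R, ρ, hR, hρ⟩ := hK
  refine ⟨R, P, ρ ≫ kernel.ι π, hR, hP, ⟨?_⟩⟩
  have h1 : IsColimit (CokernelCofork.ofπ π (kernel.condition π)) :=
    Abelian.epiIsCokernelOfKernel (KernelFork.ofι (kernel.ι π) (kernel.condition π))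
      (kernelIsKernel π)
  have e1 : F ≅ cokernel (kernel.ι π) :=
    IsColimit.coconePointUniqueUpToIso h1 (colimit.isColimit _)
  exact e1 ≪≫ (cokernelEpiComp ρ (kernel.ι π)).symm

/-- A module of type A is a quotient of a finite direct sum with finitely generated kernel. -/
theorem IsTypeA.exists_epi_isFG_kernel {F : ModSite.Mod O} (h : IsTypeA O B F) :
    ∃ (P : ModSite.Mod O) (π : P ⟶ F), IsFinSum O B P ∧ Epi π ∧ IsFG O B (kernel π) := by
  obtain ⟨R, P, ψ, hR, hP, ⟨e⟩⟩ := h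
  refine ⟨P, cokernel.π ψ ≫ e.inv, hP, epi_comp _ _, ?_⟩
  have e2 : kernel (cokernel.π ψ ≫ e.inv) ≅ kernel (cokernel.π ψ) := kernelCompMono _ _
  have h1 : IsFG O B (Abelian.image ψ) := hR.isFG.of_epi (Abelian.factorThruImage ψ)
  exact h1.of_iso e2.symm

end Groth.Agent.H45.TypeA
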