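import Groth.Agent.H45.TypeA.KernelLemmas

/-!
# Kernels of maps between modules of type A
-/

set_option autoImplicit false
universe u
open CategoryTheory CategoryTheory.Limits Opposite

namespace Groth.Agent.H45.TypeA

open Groth.Agent.H31 (freeOnHomEquiv freeOnHomEquiv_naturality freeOnHomEquiv_symm_naturality
  sect_ext_of_cover)

variable {C : Type u} [SmallCategory C] {J : GrothendieckTopology C}
  {O : Sheaf J CommRingCat.{u}} {B : Set C}

lemma IsTypeA.of_iso {M N : ModSite.Mod O} (e : M ≅ N) (h : IsTypeA O B M) : IsTypeA O B N := by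
  obtain ⟨R, P, ψ, hR, hP, ⟨e'⟩⟩ := h
  exact ⟨R, P, ψ, hR, hP, ⟨e.symm ≪≫ e'⟩⟩

lemma IsFinSum.isTypeA {P : ModSite.Mod O} (h : IsFinSum O B P) : IsTypeA O B P := by
  let V : Fin 0 → C := fun j => j.elim0
  refine ⟨∐ fun j => ModSite.freeOn O (V j), P, 0, isFinSum_sigma V (fun j => j.elim0), h,
    ⟨cokernelZeroIsoTarget.symm⟩⟩

section

variable
    (hB₁ : ∀ X : C, ∃ (κ : Type u) (Y : κ → C) (g : ∀ k, Y k ⟶ X),
      Sieve.ofArrows Y g ∈ J X ∧ ∀ k, Y k ∈ B)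
    (hB₂ : ∀ U ∈ B, CohCx.IsQcObject (QC.hsh J U))

include hB₁ hB₂

/-- The cokernel term of an exact sequence `X₁ → X₂ → X₃ → 0` with `X₁, X₂` of type A is of type
A. -/
theorem IsTypeA.of_exact (S : ShortComplex (ModSite.Mod O)) (hS : S.Exact) [Epi S.g]
    (h₁ : IsTypeA O B S.X₁) (h₂ : IsTypeA O B S.X₂) : IsTypeA O B S.X₃ :=
  (isTypeA_cokernel hB₁ hB₂ S.f h₁ h₂).of_iso
    (IsColimit.coconePointUniqueUpToIso (colimit.isColimit _) hS.gIsCokernel)

end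

/-- The hypothesis that kernels of maps between finite direct sums are of type A. -/
def KerHyp (O : Sheaf J CommRingCat.{u}) (B : Set C) : Prop :=
  ∀ {R P : ModSite.Mod O} (φ : R ⟶ P), IsFinSum O B R → IsFinSum O B P → IsTypeA O B (kernel φ)

lemma kerHyp_of_stmt
    (hker : ∀ (m n : ℕ) (V : Fin m → C) (U : Fin n → C)
      (φ : (∐ fun j => ModSite.freeOn O (V j)) ⟶ ∐ fun i => ModSite.freeOn O (U i)),
      (∀ j, V j ∈ B) → (∀ i, U i ∈ B) → IsTypeAStmt O B (kernel φ)) : KerHyp O B := by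
  intro R P φ hR hP
  obtain ⟨m, V, hV, ⟨eR⟩⟩ := hR.fin
  obtain ⟨n, U, hU, ⟨eP⟩⟩ := hP.fin
  have h := IsTypeA.of_stmt (hker m n V U (eR.inv ≫ φ ≫ eP.hom) hV hU)
  exact h.of_iso (kernel.mapIso φ (eR.inv ≫ φ ≫ eP.hom) eR eP (by simp)).symm

end Groth.Agent.H45.TypeA
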