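import Groth.Agent.H45.TypeA.Extension

/-!
# Exact sequences of kernels in abelian categories
-/

set_option autoImplicit false
universe v u'
open CategoryTheory CategoryTheory.Limits Opposite

namespace Groth.Agent.H45.TypeA

section Abelian

variable {A : Type u'} [Category.{v} A] [Abelian A]

section KerComp

variable {X Y Z : A} (a : X ⟶ Y) (b : Y ⟶ Z)

/-- `ker a ⟶ ker (a ≫ b)`. -/
noncomputable def kerCompF : kernel a ⟶ kernel (a ≫ b) :=
  kernel.lift (a ≫ b) (kernel.ι a) (by rw [← Category.assoc, kernel.condition, zero_comp])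

/-- `ker (a ≫ b) ⟶ ker b`. -/
noncomputable def kerCompG : kernel (a ≫ b) ⟶ kernel b :=
  kernel.lift b (kernel.ι (a ≫ b) ≫ a) (by rw [Category.assoc, kernel.condition])

@[reassoc (attr := simp)]
lemma kerCompF_ι : kerCompF a b ≫ kernel.ι (a ≫ b) = kernel.ι a := kernel.lift_ι _ _ _

@[reassoc (attr := simp)]
lemma kerCompG_ι : kerCompG a b ≫ kernel.ι b = kernel.ι (a ≫ b) ≫ a := kernel.lift_ι _ _ _

@[reassoc (attr := simp)]
lemma kerCompF_G : kerCompF a b ≫ kerCompG a b = 0 := by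
  rw [← cancel_mono (kernel.ι b), Category.assoc, kerCompG_ι, kerCompF_ι_assoc, kernel.condition,
    zero_comp]

lemma kerComp_exact : (ShortComplex.mk (kerCompF a b) (kerCompG a b) (kerCompF_G a b)).Exact := by
  rw [ShortComplex.exact_iff_exact_up_to_refinements]
  intro T (x : T ⟶ kernel (a ≫ b)) (hx : x ≫ kerCompG a b = 0)
  have h1 : (x ≫ kernel.ι (a ≫ b)) ≫ a = 0 := by
    have := congrArg (fun y => y ≫ kernel.ι b) hx
    simp only [Category.assoc, zero_comp, kerCompG_ι] at this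
    rw [Category.assoc]
    exact this
  refine ⟨T, 𝟙 T, inferInstance, kernel.lift a (x ≫ kernel.ι (a ≫ b)) h1, ?_⟩
  change 𝟙 T ≫ x = kernel.lift a (x ≫ kernel.ι (a ≫ b)) h1 ≫ kerCompF a b
  rw [Category.id_comp, ← cancel_mono (kernel.ι (a ≫ b)), Category.assoc, kerCompF_ι,
    kernel.lift_ι]

instance kerCompG_epi [Epi a] : Epi (kerCompG a b) := by
  rw [epi_iff_surjective_up_to_refinements]
  intro T y
  obtain ⟨T', π, hπ, x, hx⟩ := surjective_up_to_refinements_of_epi a (y ≫ kernel.ι b)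
  have h1 : x ≫ a ≫ b = 0 := by
    rw [← Category.assoc, ← hx, Category.assoc, Category.assoc, kernel.condition, comp_zero,
      comp_zero]
  refine ⟨T', π, hπ, kernel.lift (a ≫ b) x h1, ?_⟩
  rw [← cancel_mono (kernel.ι b), Category.assoc, Category.assoc, kerCompG_ι,
    kernel.lift_ι_assoc]
  exact hx

end KerComp

section KerLift

variable {R P G : A} (ψ : R ⟶ P) (π : P ⟶ G) (w : ψ ≫ π = 0)

@[reassoc (attr := simp)]
lemma kernel_ι_lift : kernel.ι ψ ≫ kernel.lift π ψ w = 0 := by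
  rw [← cancel_mono (kernel.ι π), Category.assoc, kernel.lift_ι, kernel.condition, zero_comp]

/-- For `R --ψ--> P --π--> G` with `ψ ≫ π = 0`, the sequence `ker ψ → R → ker π` is exact. -/
lemma kerLift_exact :
    (ShortComplex.mk (kernel.ι ψ) (kernel.lift π ψ w) (kernel_ι_lift ψ π w)).Exact := by
  rw [ShortComplex.exact_iff_exact_up_to_refinements]
  intro T (x : T ⟶ R) (hx : x ≫ kernel.lift π ψ w = 0)
  have h1 : x ≫ ψ = 0 := by
    have := congrArg (fun y => y ≫ kernel.ι π) hx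
    simpa only [Category.assoc, kernel.lift_ι, zero_comp] using this
  refine ⟨T, 𝟙 T, inferInstance, kernel.lift ψ x h1, ?_⟩
  change 𝟙 T ≫ x = kernel.lift ψ x h1 ≫ kernel.ι ψ
  rw [Category.id_comp, kernel.lift_ι]

lemma kerLift_epi (hex : (ShortComplex.mk ψ π w).Exact) : Epi (kernel.lift π ψ w) :=
  (ShortComplex.exact_iff_epi_kernel_lift (ShortComplex.mk ψ π w)).1 hex

end KerLift

section KerDesc

variable {R P' G Q : A} (ψ : R ⟶ P') (π' : P' ⟶ G) (w : ψ ≫ π' = 0) (β : Q ⟶ P')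

/-- `ker ψ ⟶ ker (β, ψ)`. -/
noncomputable def kerDescF : kernel ψ ⟶ kernel (biprod.desc β ψ) :=
  kernel.lift (biprod.desc β ψ) (kernel.ι ψ ≫ biprod.inr)
    (by rw [Category.assoc, biprod.inr_desc, kernel.condition])

include w in
lemma kerDescG_aux : (kernel.ι (biprod.desc β ψ) ≫ biprod.fst) ≫ β ≫ π' = 0 := by
  have h1 : (biprod.fst : Q ⊞ R ⟶ Q) ≫ β = biprod.desc β ψ - biprod.snd ≫ ψ := by
    apply biprod.hom_ext' <;> simp
  rw [Category.assoc, ← Category.assoc biprod.fst, h1, Preadditive.sub_comp,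
    Preadditive.comp_sub, kernel.condition_assoc, zero_comp, Category.assoc, w, comp_zero,
    comp_zero, sub_zero]

/-- `ker (β, ψ) ⟶ ker (β ≫ π')`. -/
noncomputable def kerDescG : kernel (biprod.desc β ψ) ⟶ kernel (β ≫ π') :=
  kernel.lift (β ≫ π') (kernel.ι (biprod.desc β ψ) ≫ biprod.fst) (kerDescG_aux ψ π' w β)

@[reassoc (attr := simp)]
lemma kerDescF_ι : kerDescF ψ β ≫ kernel.ι (biprod.desc β ψ) = kernel.ι ψ ≫ biprod.inr :=
  kernel.lift_ι _ _ _

@[reassoc (attr := simp)]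
lemma kerDescG_ι : kerDescG ψ π' w β ≫ kernel.ι (β ≫ π') =
    kernel.ι (biprod.desc β ψ) ≫ biprod.fst := kernel.lift_ι _ _ _

@[reassoc (attr := simp)]
lemma kerDescF_G : kerDescF ψ β ≫ kerDescG ψ π' w β = 0 := by
  rw [← cancel_mono (kernel.ι (β ≫ π')), Category.assoc, kerDescG_ι, kerDescF_ι_assoc,
    biprod.inr_fst, comp_zero, zero_comp]

lemma kerDesc_exact :
    (ShortComplex.mk (kerDescF ψ β) (kerDescG ψ π' w β) (kerDescF_G ψ π' w β)).Exact := by
  rw [ShortComplex.exact_iff_exact_up_to_refinements]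
  intro T (x : T ⟶ kernel (biprod.desc β ψ)) (hx : x ≫ kerDescG ψ π' w β = 0)
  have h0 : (x ≫ kernel.ι (biprod.desc β ψ)) ≫ biprod.fst = 0 := by
    have := congrArg (fun y => y ≫ kernel.ι (β ≫ π')) hx
    simpa only [Category.assoc, kerDescG_ι, zero_comp] using this
  have h1 : x ≫ kernel.ι (biprod.desc β ψ) =
      ((x ≫ kernel.ι (biprod.desc β ψ)) ≫ biprod.snd) ≫ biprod.inr := by
    apply biprod.hom_ext
    · rw [h0]
      simp
    · simp
  have h2 : ((x ≫ kernel.ι (biprod.desc β ψ)) ≫ biprod.snd) ≫ ψ = 0 := by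
    have h3 := kernel.condition (biprod.desc β ψ)
    have h4 := congrArg (fun y => x ≫ y) h3
    simp only [comp_zero] at h4
    rw [← Category.assoc, h1, Category.assoc, biprod.inr_desc] at h4
    exact h4
  refine ⟨T, 𝟙 T, inferInstance, kernel.lift ψ _ h2, ?_⟩
  change 𝟙 T ≫ x = kernel.lift ψ _ h2 ≫ kerDescF ψ β
  rw [Category.id_comp, ← cancel_mono (kernel.ι (biprod.desc β ψ)), Category.assoc, kerDescF_ι,
    kernel.lift_ι_assoc]
  exact h1

lemma kerDescG_epi (hex : (ShortComplex.mk ψ π' w).Exact) : Epi (kerDescG ψ π' w β) := by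
  rw [epi_iff_surjective_up_to_refinements]
  intro T y
  have hy : (y ≫ kernel.ι (β ≫ π') ≫ β) ≫ π' = 0 := by
    rw [Category.assoc, Category.assoc, kernel.condition, comp_zero]
  obtain ⟨T', p, hp, r, hr⟩ :=
    (ShortComplex.exact_iff_exact_up_to_refinements (ShortComplex.mk ψ π' w)).1 hex _ hy
  change p ≫ y ≫ kernel.ι (β ≫ π') ≫ β = r ≫ ψ at hr
  let x : T' ⟶ Q ⊞ R := biprod.lift (p ≫ y ≫ kernel.ι (β ≫ π')) (-r)
  have hx : x ≫ biprod.desc β ψ = 0 := by
    have e1 : x = (p ≫ y ≫ kernel.ι (β ≫ π')) ≫ biprod.inl + (-r) ≫ biprod.inr := by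
      apply biprod.hom_ext <;> simp [x]
    rw [e1, Preadditive.add_comp]
    simp only [Category.assoc, biprod.inl_desc, biprod.inr_desc, Preadditive.neg_comp]
    rw [hr]
    simp
  refine ⟨T', p, hp, kernel.lift _ x hx, ?_⟩
  rw [← cancel_mono (kernel.ι (β ≫ π')), Category.assoc, Category.assoc, kerDescG_ι,
    kernel.lift_ι_assoc]
  simp [x]

end KerDesc

end Abelian

end Groth.Agent.H45.TypeA
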