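import Groth.Agent.H45.TypeA.Kernel
import Groth.Agent.H45.TypeA.CechExact

/-!
# Kernels of maps between modules of type A are of type A (given kernels between finite sums)
-/

set_option autoImplicit false
universe u
open CategoryTheory CategoryTheory.Limits Opposite

namespace Groth.Agent.H45.TypeA

variable {C : Type u} [SmallCategory C] {J : GrothendieckTopology C}
  {O : Sheaf J CommRingCat.{u}} {B : Set C}

section

variable [HasPullbacks C]
    (hB₁ : ∀ X : C, ∃ (κ : Type u) (Y : κ → C) (g : ∀ k, Y k ⟶ X),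
      Sieve.ofArrows Y g ∈ J X ∧ ∀ k, Y k ∈ B)
    (hB₂ : ∀ U ∈ B, CohCx.IsQcObject (QC.hsh J U))
    (hB₃ : ∀ (U U₁ U₂ : C) (f₁ : U₁ ⟶ U) (f₂ : U₂ ⟶ U), U ∈ B → U₁ ∈ B → U₂ ∈ B →
      CohCx.IsQcObject (QC.hsh J (pullback f₁ f₂)))
    (hK : KerHyp O B)

include hB₁ hB₂ hK

/-- For an exact `R --ψ--> P --π--> G` with `R`, `P` finite direct sums, `ker π` is of type A. -/
theorem isTypeA_kernel_of_exact {R P G : ModSite.Mod O} (ψ : R ⟶ P) (π : P ⟶ G)
    (w : ψ ≫ π = 0) (hex : (ShortComplex.mk ψ π w).Exact)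
    (hR : IsFinSum O B R) (hP : IsFinSum O B P) : IsTypeA O B (kernel π) := by
  haveI := kerLift_epi ψ π w hex
  exact IsTypeA.of_exact hB₁ hB₂
    (ShortComplex.mk (kernel.ι ψ) (kernel.lift π ψ w) (kernel_ι_lift ψ π w))
    (kerLift_exact ψ π w) (hK ψ hR hP) hR.isTypeA

include hB₃

/-- The kernel of any map from a finite direct sum to a module of type A is of type A. -/
theorem isTypeA_kernel_of_finSum {P G : ModSite.Mod O} (π : P ⟶ G)
    (hP : IsFinSum O B P) (hG : IsTypeA O B G) : IsTypeA O B (kernel π) := by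
  obtain ⟨R_G, P_G, ψ_G, hRG, hPG, ⟨eG⟩⟩ := hG
  let π_G : P_G ⟶ G := cokernel.π ψ_G ≫ eG.inv
  have w : ψ_G ≫ π_G = 0 := by simp [π_G]
  have hπ : IsColimit (CokernelCofork.ofπ π_G w) :=
    IsCokernel.cokernelIso ψ_G π_G (cokernelIsCokernel ψ_G) eG.symm rfl
  have hexG : (ShortComplex.mk ψ_G π_G w).Exact := ShortComplex.exact_of_g_is_cokernel _ hπ
  haveI : Epi π_G := epi_of_isColimit_cofork hπ
  obtain ⟨I, hI, U, hU, ⟨e⟩⟩ := hP
  let a : (∐ fun i => ModSite.freeOn O (U i)) ⟶ G := e.inv ≫ π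
  obtain ⟨D, β, comm⟩ := exists_coverData_lift hB₁ hB₂ π_G U hU a
  -- ker (β ≫ π_G) is of type A
  have h1 : IsTypeA O B (kernel (β ≫ π_G)) := by
    haveI := kerDescG_epi ψ_G π_G w β hexG
    exact IsTypeA.of_exact hB₁ hB₂
      (ShortComplex.mk (kerDescF ψ_G β) (kerDescG ψ_G π_G w β) (kerDescF_G ψ_G π_G w β))
      (kerDesc_exact ψ_G π_G w β) (hK ψ_G hRG hPG)
      (hK (biprod.desc β ψ_G) (D.isFinSum_src.biprod hRG) hPG)
  have h2 : IsTypeA O B (kernel (D.q O ≫ a)) := h1.of_iso (kernelIsoOfEq comm)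
  -- ker q is of type A
  obtain ⟨Rd, d, wd, hRd, hexd⟩ := D.exists_cech_exact hB₁ hB₃ hU
  have h3 : IsTypeA O B (kernel (D.q O)) :=
    isTypeA_kernel_of_exact hB₁ hB₂ hK d (D.q O) wd hexd hRd D.isFinSum_src
  have h4 : IsTypeA O B (kernel a) :=
    IsTypeA.of_exact hB₁ hB₂
      (ShortComplex.mk (kerCompF (D.q O) a) (kerCompG (D.q O) a) (kerCompF_G (D.q O) a))
      (kerComp_exact (D.q O) a) h3 h2
  exact h4.of_iso (kernelIsIsoComp e.inv π)

/-- **Kernels of maps between modules of type A are of type A**, if kernels of maps between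
finite direct sums are. -/
theorem isTypeA_kernel {F G : ModSite.Mod O} (α : F ⟶ G)
    (hF : IsTypeA O B F) (hG : IsTypeA O B G) : IsTypeA O B (kernel α) := by
  obtain ⟨R_F, P_F, ψ_F, hRF, hPF, ⟨eF⟩⟩ := hF
  let π_F : P_F ⟶ F := cokernel.π ψ_F ≫ eF.inv
  have w : ψ_F ≫ π_F = 0 := by simp [π_F]
  have hπ : IsColimit (CokernelCofork.ofπ π_F w) :=
    IsCokernel.cokernelIso ψ_F π_F (cokernelIsCokernel ψ_F) eF.symm rfl
  have hexF : (ShortComplex.mk ψ_F π_F w).Exact := ShortComplex.exact_of_g_is_cokernel _ hπ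
  haveI : Epi π_F := epi_of_isColimit_cofork hπ
  have h1 : IsTypeA O B (kernel π_F) :=
    isTypeA_kernel_of_exact hB₁ hB₂ hK ψ_F π_F w hexF hRF hPF
  have h2 : IsTypeA O B (kernel (π_F ≫ α)) :=
    isTypeA_kernel_of_finSum hB₁ hB₂ hB₃ hK (π_F ≫ α) hPF hG
  exact IsTypeA.of_exact hB₁ hB₂
    (ShortComplex.mk (kerCompF π_F α) (kerCompG π_F α) (kerCompF_G π_F α))
    (kerComp_exact π_F α) h1 h2

end

end Groth.Agent.H45.TypeA
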